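import Groth.Prelude.Def_FilD
import Mathlib.CategoryTheory.Abelian.Refinements
import Mathlib.CategoryTheory.ObjectProperty.FiniteProducts
import Mathlib.CategoryTheory.Limits.Shapes.Biproducts
import Mathlib.Algebra.Homology.ShortComplex.Exact
import Mathlib.CategoryTheory.Preadditive.Injective.Basic

/-!
# Finite filtered objects: refinement criteria and extension into filtered injective objects
-/

set_option autoImplicit false

universe v u

open CategoryTheory CategoryTheory.Limits Opposite FilD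

namespace FilDLib

variable {A : Type u} [Category.{v} A] [Abelian A]

/-- The `p`-th level. -/
abbrev lv (X : FilF A) (p : ℤ) : A := X.obj.obj (op p)

/-- The transition map. -/
abbrev tr (X : FilF A) (p : ℤ) : lv X (p + 1) ⟶ lv X p := X.obj.map (stepHom p)

/-- A morphism at a level. -/
abbrev ap {X Y : FilF A} (f : X ⟶ Y) (p : ℤ) : lv X p ⟶ lv Y p := f.hom.app (op p)

/-- The projection to the graded piece. -/
noncomputable abbrev grπ (X : FilF A) (p : ℤ) : lv X p ⟶ (grF A p).obj X := cokernel.π (tr X p)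

instance mono_map (X : FilF A) {p q : ℤᵒᵖ} (f : p ⟶ q) : Mono (X.obj.map f) := X.property.1 f

instance mono_tr (X : FilF A) (p : ℤ) : Mono (tr X p) := X.property.1 _

@[reassoc]
lemma tr_ap {X Y : FilF A} (f : X ⟶ Y) (p : ℤ) : tr X p ≫ ap f p = ap f (p + 1) ≫ tr Y p :=
  f.hom.naturality _

@[reassoc (attr := simp)]
lemma ap_comp {X Y Z : FilF A} (f : X ⟶ Y) (g : Y ⟶ Z) (p : ℤ) : ap (f ≫ g) p = ap f p ≫ ap g p := rfl

@[simp] lemma ap_id (X : FilF A) (p : ℤ) : ap (𝟙 X) p = 𝟙 _ := rfl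
@[simp] lemma ap_zero (X Y : FilF A) (p : ℤ) : ap (0 : X ⟶ Y) p = 0 := rfl
@[simp] lemma ap_add {X Y : FilF A} (f g : X ⟶ Y) (p : ℤ) : ap (f + g) p = ap f p + ap g p := rfl
@[simp] lemma ap_sub {X Y : FilF A} (f g : X ⟶ Y) (p : ℤ) : ap (f - g) p = ap f p - ap g p := rfl
@[simp] lemma ap_neg {X Y : FilF A} (f : X ⟶ Y) (p : ℤ) : ap (-f) p = -ap f p := rfl

lemma hom_ext {X Y : FilF A} {f g : X ⟶ Y} (h : ∀ p, ap f p = ap g p) : f = g :=
  ObjectProperty.hom_ext _ (NatTrans.ext (funext fun p => h p.unop))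

instance epi_grπ (X : FilF A) (p : ℤ) : Epi (grπ X p) :=
  inferInstanceAs (Epi (cokernel.π (tr X p)))

@[reassoc (attr := simp)]
lemma tr_grπ (X : FilF A) (p : ℤ) : tr X p ≫ grπ X p = 0 := cokernel.condition (tr X p)

lemma grπ_map {X Y : FilF A} (f : X ⟶ Y) (p : ℤ) :
    grπ X p ≫ (grF A p).map f = ap f p ≫ grπ Y p :=
  cokernel.π_desc _ _ _

lemma grπ_exact (X : FilF A) (p : ℤ) :
    (ShortComplex.mk (tr X p) (grπ X p) (tr_grπ X p)).Exact :=
  ShortComplex.exact_of_g_is_cokernel _ (cokernelIsCokernel _)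

lemma exists_of_grπ_eq_zero (X : FilF A) (p : ℤ) {T : A} (x : T ⟶ lv X p) (h : x ≫ grπ X p = 0) :
    ∃ x' : T ⟶ lv X (p + 1), x' ≫ tr X p = x :=
  ⟨(grπ_exact X p).lift x h, (grπ_exact X p).lift_f x h⟩

/-- The sequence is exact at every level. -/
def LvExact {X Y Z : FilF A} (f : X ⟶ Y) (g : Y ⟶ Z) : Prop :=
  ∀ (p : ℤ) (T : A) (y : T ⟶ lv Y p), y ≫ ap g p = 0 →
    ∃ (T' : A) (π : T' ⟶ T) (_ : Epi π) (x : T' ⟶ lv X p), π ≫ y = x ≫ ap f p

/-- The infinitesimal form of strictness. -/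
def Lift {Y Z : FilF A} (g : Y ⟶ Z) : Prop :=
  ∀ (p : ℤ) (T : A) (y : T ⟶ lv Y p) (z : T ⟶ lv Z (p + 1)), y ≫ ap g p = z ≫ tr Z p →
    ∃ (T' : A) (π : T' ⟶ T) (_ : Epi π) (y' : T' ⟶ lv Y (p + 1)), π ≫ z = y' ≫ ap g (p + 1)

lemma lvExact_of_mono {X Y Z : FilF A} (f : X ⟶ Y) (g : Y ⟶ Z) [hg : ∀ p, Mono (ap g p)] :
    LvExact f g := fun p T y hy =>
  ⟨T, 𝟙 T, inferInstance, 0, by
    rw [zero_comp, Category.id_comp, ← cancel_mono (ap g p), hy, zero_comp]⟩

section GrExact

variable {X Y Z : FilF A} (f : X ⟶ Y) (g : Y ⟶ Z) (w : f ≫ g = 0)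

include w in
lemma ap_w (p : ℤ) : ap f p ≫ ap g p = 0 := by rw [← ap_comp, w, ap_zero]

private lemma step_of_gr (h : ∀ p, ((ShortComplex.mk f g w).map (grF A p)).Exact) (p : ℤ) {T : A}
    (y : T ⟶ lv Y p) (z : T ⟶ lv Z (p + 1)) (hy : y ≫ ap g p = z ≫ tr Z p) :
    ∃ (T' : A) (π : T' ⟶ T) (_ : Epi π) (x : T' ⟶ lv X p) (y' : T' ⟶ lv Y (p + 1)),
      π ≫ y = x ≫ ap f p + y' ≫ tr Y p ∧ y' ≫ ap g (p + 1) = π ≫ z := by
  obtain ⟨T₁, π₁, _, xb, hxb⟩ := (h p).exact_up_to_refinements (y ≫ grπ Y p) (by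
    change (y ≫ grπ Y p) ≫ (grF A p).map g = 0
    rw [Category.assoc, grπ_map, reassoc_of% hy, tr_grπ, comp_zero])
  change T₁ ⟶ (grF A p).obj X at xb
  obtain ⟨T₂, π₂, _, x, hx⟩ := surjective_up_to_refinements_of_epi (grπ X p) xb
  have hxb' : π₁ ≫ y ≫ grπ Y p = xb ≫ (grF A p).map f := hxb
  obtain ⟨y', hy'⟩ := exists_of_grπ_eq_zero Y p (π₂ ≫ π₁ ≫ y - x ≫ ap f p) (by
    rw [Preadditive.sub_comp, Category.assoc, Category.assoc, Category.assoc, sub_eq_zero, hxb',
      reassoc_of% hx, grπ_map])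
  refine ⟨T₂, π₂ ≫ π₁, inferInstance, x, y', by rw [hy']; simp, ?_⟩
  rw [← cancel_mono (tr Z p), Category.assoc, ← tr_ap, reassoc_of% hy']
  simp [ap_w f g w, hy]

/-- Exactness on graded pieces gives exactness at every level, and strictness of the second map. -/
lemma of_gr_exact (h : ∀ p, ((ShortComplex.mk f g w).map (grF A p)).Exact) :
    LvExact f g ∧ Lift g := by
  refine ⟨fun p T y hy => ?_, fun p T y z hy => ?_⟩
  · obtain ⟨b, hb⟩ := Y.property.2.1
    induction hk : (b - p).toNat generalizing p T with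
    | zero =>
      refine ⟨T, 𝟙 _, inferInstance, 0, ?_⟩
      rw [(hb p (by omega)).eq_of_tgt y 0]; simp
    | succ k ih =>
      obtain ⟨T₁, π₁, _, x, y', e1, e2⟩ := step_of_gr f g w h p y 0 (by rw [hy, zero_comp])
      rw [comp_zero] at e2
      obtain ⟨T₂, π₂, _, x', e3⟩ := ih (p + 1) T₁ y' e2 (by omega)
      refine ⟨T₂, π₂ ≫ π₁, inferInstance, π₂ ≫ x + x' ≫ tr X p, ?_⟩
      rw [Category.assoc, e1, Preadditive.comp_add, reassoc_of% e3, Preadditive.add_comp,
        Category.assoc, Category.assoc, tr_ap]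
  · obtain ⟨T₁, π₁, _, x, y', -, e⟩ := step_of_gr f g w h p y z hy
    exact ⟨T₁, π₁, inferInstance, y', e.symm⟩

/-- Conversely. -/
lemma gr_exact (h₁ : LvExact f g) (h₂ : Lift g) (p : ℤ) :
    ((ShortComplex.mk f g w).map (grF A p)).Exact := by
  rw [ShortComplex.exact_iff_exact_up_to_refinements]
  intro T yb hyb
  change T ⟶ (grF A p).obj Y at yb
  obtain ⟨T₁, π₁, _, y, hy⟩ := surjective_up_to_refinements_of_epi (grπ Y p) yb
  have hyb' : yb ≫ (grF A p).map g = 0 := hyb
  obtain ⟨z, hz⟩ := exists_of_grπ_eq_zero Z p (y ≫ ap g p) (by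
    rw [Category.assoc, ← grπ_map, ← reassoc_of% hy, hyb', comp_zero])
  obtain ⟨T₂, π₂, _, y', hy'⟩ := h₂ p T₁ y z hz.symm
  obtain ⟨T₃, π₃, _, x, hx⟩ := h₁ p T₂ (π₂ ≫ y - y' ≫ tr Y p) (by
    rw [Preadditive.sub_comp, Category.assoc, Category.assoc, tr_ap, ← reassoc_of% hy', hz, sub_self])
  refine ⟨T₃, π₃ ≫ π₂ ≫ π₁, inferInstance, x ≫ grπ X p, ?_⟩
  change (π₃ ≫ π₂ ≫ π₁) ≫ yb = (x ≫ grπ X p) ≫ (grF A p).map f
  rw [Category.assoc, Category.assoc, Category.assoc, hy, grπ_map, ← reassoc_of% hx,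
    Preadditive.sub_comp, Category.assoc, Category.assoc, tr_grπ, comp_zero, sub_zero]

end GrExact

/-- Morphisms out of a compatible family of maps at each level. -/
noncomputable def mkHom {X Y : FilF A} (h : ∀ p, lv X p ⟶ lv Y p)
    (hh : ∀ p, tr X p ≫ h p = h (p + 1) ≫ tr Y p) : X ⟶ Y :=
  ObjectProperty.homMk
    { app := fun p => h p.unop
      naturality := by
        intro ⟨q⟩ ⟨p⟩ f
        have key : ∀ q, ∀ hpq : p ≤ q, X.obj.map (homOfLE hpq).op ≫ h p = h q ≫ Y.obj.map (homOfLE hpq).op := by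
          refine fun q hpq => Int.leInduction (m := p)
            (motive := fun q hpq => X.obj.map (homOfLE hpq).op ≫ h p = h q ≫ Y.obj.map (homOfLE hpq).op)
            ?_ (fun n hn ih => ?_) q hpq
          · rw [show (homOfLE (le_refl p)).op = 𝟙 (op p) from rfl]
            simp
          · have e : (homOfLE (hn.trans (Int.le_add_one le_rfl))).op = stepHom n ≫ (homOfLE hn).op := rfl
            rw [e, Functor.map_comp, Category.assoc, ih, reassoc_of% (hh n), Functor.map_comp]
        exact key q (leOfHom f.unop) }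

@[simp] lemma ap_mkHom {X Y : FilF A} (h : ∀ p, lv X p ⟶ lv Y p)
    (hh : ∀ p, tr X p ≫ h p = h (p + 1) ≫ tr Y p) (p : ℤ) : ap (mkHom h hh) p = h p := rfl

/-- All levels of a filtered injective object are injective. -/
lemma injective_lv {I : FilF A} (hI : IsFilteredInjective I) (p : ℤ) : Injective (lv I p) := by
  obtain ⟨b, hb⟩ := I.property.2.1
  induction hk : (b - p).toNat generalizing p with
  | zero =>
    exact ⟨fun g f _ => ⟨0, (hb p (by omega)).eq_of_tgt _ _⟩⟩
  | succ k ih =>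
    have h1 : Injective (lv I (p + 1)) := ih (p + 1) (by omega)
    have h2 : Injective ((grF A p).obj I) := hI p
    let s := ShortComplex.Splitting.ofExactOfRetraction _ (grπ_exact I p)
      (Injective.factorThru (𝟙 _) (tr I p)) (Injective.comp_factorThru _ _)
      (epi_grπ I p)
    refine ⟨fun {X Y} g f _ => ⟨Injective.factorThru (g ≫ s.r) f ≫ tr I p +
      Injective.factorThru (g ≫ grπ I p) f ≫ s.s, ?_⟩⟩
    rw [Preadditive.comp_add, Injective.comp_factorThru_assoc, Injective.comp_factorThru_assoc,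
      Category.assoc, Category.assoc, ← Preadditive.comp_add]
    exact (congrArg (g ≫ ·) s.id).trans (Category.comp_id g)

/-- The main tool: morphisms into filtered injective objects descend along exact sequences whose
second map is strict. -/
lemma exists_desc {X Y Z I : FilF A} {f : X ⟶ Y} {g : Y ⟶ Z} (h₁ : LvExact f g) (h₂ : Lift g)
    (hI : IsFilteredInjective I) (ψ : Y ⟶ I) (hψ : f ≫ ψ = 0) : ∃ h : Z ⟶ I, g ≫ h = ψ := by
  obtain ⟨b, hb⟩ := I.property.2.1
  let P : (∀ p, lv Z p ⟶ lv I p) → ℤ → Prop := fun h p =>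
    ap g p ≫ h p = ap ψ p ∧ tr Z p ≫ h p = h (p + 1) ≫ tr I p
  have step : ∀ (h : ∀ p, lv Z p ⟶ lv I p) (p : ℤ), (∀ q, p + 1 ≤ q → P h q) →
      ∃ k : lv Z p ⟶ lv I p, ap g p ≫ k = ap ψ p ∧ tr Z p ≫ k = h (p + 1) ≫ tr I p := by
    intro h p hp
    have := injective_lv hI p
    let m : lv Y p ⊞ lv Z (p + 1) ⟶ lv Z p := biprod.desc (ap g p) (tr Z p)
    let n : lv Y p ⊞ lv Z (p + 1) ⟶ lv I p := biprod.desc (ap ψ p) (h (p + 1) ≫ tr I p)
    have hex : (ShortComplex.mk (kernel.ι m) m (kernel.condition m)).Exact :=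
      ShortComplex.exact_of_f_is_kernel _ (kernelIsKernel m)
    have key : kernel.ι m ≫ n = 0 := by
      set y := kernel.ι m ≫ biprod.fst with hy'
      set z := kernel.ι m ≫ biprod.snd with hz'
      have hι : kernel.ι m = y ≫ biprod.inl + z ≫ biprod.inr := by
        rw [hy', hz', Category.assoc, Category.assoc, ← Preadditive.comp_add, biprod.total,
          Category.comp_id]
      have hc : y ≫ ap g p + z ≫ tr Z p = 0 := by
        have := kernel.condition m
        rw [hι] at this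
        simpa [m, biprod.inl_desc, biprod.inr_desc] using this
      clear_value y z
      obtain ⟨T₁, π₁, _, y', hy₁⟩ := h₂ p _ y (-z) (by
        rw [Preadditive.neg_comp]; exact eq_neg_of_add_eq_zero_left hc)
      obtain ⟨T₂, π₂, _, x, hx⟩ := h₁ p T₁ (π₁ ≫ y - y' ≫ tr Y p) (by
        rw [Preadditive.sub_comp, Category.assoc, Category.assoc, tr_ap, ← reassoc_of% hy₁,
          eq_neg_of_add_eq_zero_left hc]
        simp)
      have e0 : ap f p ≫ ap ψ p = 0 := by rw [← ap_comp, hψ, ap_zero]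
      have e1 : π₂ ≫ (π₁ ≫ y - y' ≫ tr Y p) ≫ ap ψ p = 0 := by
        rw [reassoc_of% hx, e0, comp_zero]
      rw [← cancel_epi π₁, ← cancel_epi π₂, comp_zero, comp_zero, hι]
      simp only [n, Preadditive.comp_add, Preadditive.add_comp, Category.assoc, biprod.inl_desc,
        biprod.inr_desc]
      have e2 : π₁ ≫ z = -(y' ≫ ap g (p + 1)) := by rw [← hy₁]; simp
      rw [reassoc_of% e2]
      simp only [Preadditive.neg_comp, Category.assoc]
      rw [reassoc_of% (hp (p + 1) le_rfl).1, ← tr_ap]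
      simpa [Preadditive.sub_comp, sub_eq_add_neg] using e1
    refine ⟨hex.descToInjective n key, ?_, ?_⟩
    · have := congrArg (biprod.inl ≫ ·) (hex.comp_descToInjective n key)
      simpa [m, n] using this
    · have := congrArg (biprod.inr ≫ ·) (hex.comp_descToInjective n key)
      simpa [m, n] using this
  choose next hnext using step
  classical
  have hz : ∀ (h : ∀ p, lv Z p ⟶ lv I p) q, b ≤ q → P h q := fun h q hq =>
    ⟨(hb q hq).eq_of_tgt _ _, (hb q hq).eq_of_tgt _ _⟩
  let G : ∀ k : ℕ, { h : ∀ p, lv Z p ⟶ lv I p // ∀ q, b - k ≤ q → P h q } := fun k =>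
    Nat.rec ⟨0, fun q hq => hz 0 q (by have : ((Nat.zero : ℕ) : ℤ) = 0 := rfl; omega)⟩
      (fun j h => ⟨Function.update h.1 (b - (j + 1 : ℕ))
          (next h.1 _ (fun q hq => h.2 q (by omega))), fun q hq => by
        rcases eq_or_lt_of_le hq with rfl | hq
        · refine ⟨?_, ?_⟩
          · rw [Function.update_self]
            exact (hnext _ _ _).1
          · rw [Function.update_self, Function.update_of_ne (by omega)]
            exact (hnext _ _ _).2
        · unfold P
          rw [Function.update_of_ne (by omega), Function.update_of_ne (by omega)]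
          exact h.2 q (by omega)⟩) k
  have stab : ∀ (k j : ℕ), k ≤ j → ∀ q, b - k ≤ q → (G j).1 q = (G k).1 q := by
    intro k j hkj q hq
    induction j, hkj using Nat.le_induction with
    | base => rfl
    | succ j hj ih =>
      change Function.update (G j).1 (b - (j + 1 : ℕ)) _ q = _
      rw [Function.update_of_ne (by omega), ih]
  let h : ∀ p, lv Z p ⟶ lv I p := fun p => (G (b - p).toNat).1 p
  have hP : ∀ p, P h p := fun p => by
    have e : h (p + 1) = (G (b - p).toNat).1 (p + 1) :=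
      (stab _ _ (by omega) _ (by omega)).symm
    have := (G (b - p).toNat).2 p (by omega)
    unfold P at this ⊢
    rw [e]
    exact this
  exact ⟨mkHom h fun p => (hP p).2, hom_ext fun p => by simpa using (hP p).1⟩

/-- Strictness in terms of lifting. -/
lemma lift_of_isStrict {Y Z : FilF A} {g : Y ⟶ Z} (hg : IsStrict g) : Lift g := by
  intro p T y z hy
  have he := hg p (p + 1) (Int.le_add_one le_rfl)
  change imageSubobject (ap g (p + 1) ≫ tr Z p) =
    imageSubobject (ap g p) ⊓ Subobject.mk (tr Z p) at he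
  have hm : (imageSubobject (ap g (p + 1) ≫ tr Z p)).Factors (z ≫ tr Z p) := by
    rw [he, Subobject.inf_factors]
    refine ⟨?_, Subobject.mk_factors_self (tr Z p) |> fun h => ?_⟩
    · rw [← hy]
      exact imageSubobject_factors_comp_self _ y
    · exact (Subobject.mk_factors_iff _ _).mpr ⟨z, rfl⟩
  obtain ⟨T', π, _, y', hy'⟩ := surjective_up_to_refinements_of_epi
    (factorThruImageSubobject (ap g (p + 1) ≫ tr Z p)) (Subobject.factorThru _ _ hm)
  refine ⟨T', π, inferInstance, y', (cancel_mono (tr Z p)).mp ?_⟩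
  rw [Category.assoc, Category.assoc, ← imageSubobject_arrow_comp (ap g (p + 1) ≫ tr Z p),
    ← reassoc_of% hy', Subobject.factorThru_arrow]

lemma lift_iterate {F G : FilF A} {φ : F ⟶ G} (hφ : Lift φ) {p q : ℤ} (h : p ≤ q) {T : A}
    (y : T ⟶ lv F p) (z : T ⟶ lv G q) (hy : y ≫ ap φ p = z ≫ G.obj.map (homOfLE h).op) :
    ∃ (T' : A) (π : T' ⟶ T) (_ : Epi π) (y' : T' ⟶ lv F q), π ≫ z = y' ≫ ap φ q := by
  induction hk : (q - p).toNat generalizing p T with
  | zero =>
    obtain rfl : p = q := by omega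
    refine ⟨T, 𝟙 _, inferInstance, y, ?_⟩
    rw [hy, show (homOfLE h).op = 𝟙 (op p) from rfl, CategoryTheory.Functor.map_id,
      Category.comp_id, Category.id_comp]
  | succ k ih =>
    have h' : p + 1 ≤ q := by omega
    have hc : (homOfLE h).op = (homOfLE h').op ≫ stepHom p := rfl
    rw [hc, CategoryTheory.Functor.map_comp, ← Category.assoc] at hy
    obtain ⟨T₁, π₁, _, y', e⟩ := hφ p T y _ hy
    obtain ⟨T₂, π₂, _, y'', e3⟩ := ih h' y' (π₁ ≫ z) (by rw [← e, Category.assoc]) (by omega)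
    exact ⟨T₂, π₂ ≫ π₁, inferInstance, y'', by rw [Category.assoc, e3]⟩

lemma isStrict_of_lift {F G : FilF A} {φ : F ⟶ G} (H : Lift φ) : IsStrict φ := by
  intro p q h
  refine le_antisymm (le_inf ?_ ?_) ?_
  · simpa only [φ.hom.naturality] using
      imageSubobject_comp_le (F.obj.map (homOfLE h).op) (φ.hom.app (op p))
  · exact imageSubobject_le_mk _ _ (φ.hom.app (op q)) rfl
  · set P := imageSubobject (φ.hom.app (op p)) ⊓ Subobject.mk (G.obj.map (homOfLE h).op) with hP
    have h1 : P ≤ imageSubobject (φ.hom.app (op p)) := inf_le_left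
    have h2 : P ≤ Subobject.mk (G.obj.map (homOfLE h).op) := inf_le_right
    obtain ⟨T₁, π₁, _, y, hy⟩ := surjective_up_to_refinements_of_epi
      (factorThruImageSubobject (φ.hom.app (op p))) (Subobject.ofLE _ _ h1)
    let z := π₁ ≫ Subobject.ofLEMk P _ h2
    obtain ⟨T₂, π₂, _, y', hy'⟩ := lift_iterate H h y z (by
      simp only [z, Category.assoc, Subobject.ofLEMk_comp]
      rw [← imageSubobject_arrow_comp (ap φ p), ← reassoc_of% hy, Subobject.ofLE_arrow])
    have hc : P.arrow ≫ cokernel.π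
        (imageSubobject (φ.hom.app (op q) ≫ G.obj.map (homOfLE h).op)).arrow = 0 := by
      rw [← cancel_epi π₁, ← cancel_epi π₂, comp_zero, comp_zero, ← Subobject.ofLEMk_comp h2]
      simp only [z] at hy'
      simp only [← Category.assoc] at hy' ⊢
      rw [hy']
      simp only [Category.assoc]
      have e := congrArg (y' ≫ ·) (congrArg (· ≫ cokernel.π
        (imageSubobject (φ.hom.app (op q) ≫ G.obj.map (homOfLE h).op)).arrow)
        (imageSubobject_arrow_comp (φ.hom.app (op q) ≫ G.obj.map (homOfLE h).op)))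
      simp only [Category.assoc, tr_grπ, comp_zero] at e
      exact e.symm.trans (by rw [cokernel.condition]; simp)
    exact Subobject.le_of_comm (Abelian.monoLift _ _ hc) (Abelian.monoLift_comp _ _ hc)

lemma isStrict_iff_lift {Y Z : FilF A} {g : Y ⟶ Z} : IsStrict g ↔ Lift g :=
  ⟨lift_of_isStrict, isStrict_of_lift⟩

/-- Objects given by kernels. -/
lemma isFinFil_kernel {X Y : FilF A} (φ : X ⟶ Y) : IsFinFil A (kernel φ.hom) := by
  have hmono : ∀ q, Mono ((kernel.ι φ.hom).app q) := fun q =>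
    inferInstanceAs (Mono (((evaluation ℤᵒᵖ A).obj q).map (kernel.ι φ.hom)))
  refine ⟨fun p q f => ?_, ?_, ?_⟩
  · have := X.property.1 f
    have : Mono ((kernel.ι φ.hom).app p ≫ X.obj.map f) := mono_comp _ _
    exact mono_of_mono_fac ((kernel.ι φ.hom).naturality f)
  · obtain ⟨b, hb⟩ := X.property.2.1
    exact ⟨b, fun p hp => IsZero.of_mono ((kernel.ι φ.hom).app (op p)) (hb p hp)⟩
  · obtain ⟨a, ha⟩ := X.property.2.2
    obtain ⟨a', ha'⟩ := Y.property.2.2
    refine ⟨min a a', fun p q f hp => ?_⟩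
    have := ha f (le_trans hp (min_le_left _ _))
    have : Mono ((kernel.ι φ.hom).app p ≫ X.obj.map f) := mono_comp _ _
    have hm : Mono ((kernel φ.hom).map f) := mono_of_mono_fac ((kernel.ι φ.hom).naturality f)
    have : Epi ((kernel φ.hom).map f) := by
      rw [epi_iff_surjective_up_to_refinements]
      intro T x
      have hex : (ShortComplex.mk ((kernel.ι φ.hom).app p) (φ.hom.app p)
          (by rw [← NatTrans.comp_app, kernel.condition]; rfl)).Exact :=
        ((ShortComplex.exact_of_f_is_kernel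
          (ShortComplex.mk _ φ.hom (kernel.condition φ.hom)) (kernelIsKernel _)).map
            ((evaluation ℤᵒᵖ A).obj p))
      have hz : (x ≫ (kernel.ι φ.hom).app q ≫ inv (X.obj.map f)) ≫ φ.hom.app p = 0 := by
        have : Mono (Y.obj.map f) := Y.property.1 f
        rw [← cancel_mono (Y.obj.map f), zero_comp, Category.assoc, Category.assoc, Category.assoc,
          ← φ.hom.naturality, IsIso.inv_hom_id_assoc, ← NatTrans.comp_app, kernel.condition]
        simp
      obtain ⟨T', π, _, k, hk⟩ := hex.exact_up_to_refinements _ hz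
      refine ⟨T', π, inferInstance, k, (cancel_mono ((kernel.ι φ.hom).app q)).mp ?_⟩
      have hk' : π ≫ x ≫ (kernel.ι φ.hom).app q ≫ inv (X.obj.map f) = k ≫ (kernel.ι φ.hom).app p := hk
      rw [Category.assoc, Category.assoc, (kernel.ι φ.hom).naturality, ← reassoc_of% hk']
      simp
    exact isIso_of_mono_of_epi _

/-- The kernel as a finite filtered object. -/
noncomputable def ker {X Y : FilF A} (φ : X ⟶ Y) : FilF A := ⟨kernel φ.hom, isFinFil_kernel φ⟩

/-- Its inclusion. -/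
noncomputable def kerι {X Y : FilF A} (φ : X ⟶ Y) : ker φ ⟶ X :=
  ObjectProperty.homMk (kernel.ι φ.hom)

@[reassoc (attr := simp)]
lemma kerι_comp {X Y : FilF A} (φ : X ⟶ Y) : kerι φ ≫ φ = 0 :=
  ObjectProperty.hom_ext _ (kernel.condition φ.hom)

instance {X Y : FilF A} (φ : X ⟶ Y) (p : ℤ) : Mono (ap (kerι φ) p) :=
  inferInstanceAs (Mono (((evaluation ℤᵒᵖ A).obj (op p)).map (kernel.ι φ.hom)))

lemma kerι_lvExact {X Y : FilF A} (φ : X ⟶ Y) : LvExact (kerι φ) φ := fun p T y hy =>
  ((ShortComplex.exact_of_f_is_kernel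
    (ShortComplex.mk _ φ.hom (kernel.condition φ.hom)) (kernelIsKernel _)).map
      ((evaluation ℤᵒᵖ A).obj (op p))).exact_up_to_refinements y hy

/-- A monomorphism is a monomorphism at every level. -/
lemma mono_ap {X Y : FilF A} (u : X ⟶ Y) [Mono u] (p : ℤ) : Mono (ap u p) := by
  have h0 : kerι u = 0 := by rw [← cancel_mono u, kerι_comp, zero_comp]
  refine Preadditive.mono_of_cancel_zero _ fun {T} y hy => ?_
  obtain ⟨T', π, _, x, hx⟩ := kerι_lvExact u p T y hy
  rw [h0, ap_zero, comp_zero] at hx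
  exact (cancel_epi π).mp (by rw [hx, comp_zero])

end FilDLib
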