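import Groth.Agent.FilDLib.Basic
import Mathlib.Algebra.Homology.HomotopyCategory.Acyclic
import Mathlib.Algebra.Homology.HomotopyCategory.ShiftSequence
import Mathlib.Algebra.Homology.Localization
import Mathlib.Algebra.Homology.Embedding.CochainComplex

/-!
# Complexes of finite filtered objects: homotopy into filtered injective complexes
-/

set_option autoImplicit false

universe v u

open CategoryTheory CategoryTheory.Limits Opposite FilD
open CategoryTheory.Pretriangulated

namespace FilDLib

variable {A : Type u} [Category.{v} A] [Abelian A]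

lemma isFinFil_of_split {F G X : ℤᵒᵖ ⥤ A} (hF : IsFinFil A F) (hG : IsFinFil A G)
    (l : X ⟶ F) (r : X ⟶ G) (i : F ⟶ X) (j : G ⟶ X) (h : l ≫ i + r ≫ j = 𝟙 X)
    (hil : i ≫ l = 𝟙 F) (hjr : j ≫ r = 𝟙 G) (hir : i ≫ r = 0) (hjl : j ≫ l = 0) :
    IsFinFil A X := by
  have e : ∀ q, l.app q ≫ i.app q + r.app q ≫ j.app q = 𝟙 (X.obj q) := fun q =>
    congr_app h q
  have ext : ∀ {T : A} (q : ℤᵒᵖ) (a : T ⟶ X.obj q), a ≫ l.app q = 0 → a ≫ r.app q = 0 → a = 0 := by
    intro T q a h₁ h₂
    rw [← Category.comp_id a, ← e q, Preadditive.comp_add, reassoc_of% h₁, reassoc_of% h₂]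
    simp
  refine ⟨fun p q f => ?_, ?_, ?_⟩
  · refine Preadditive.mono_of_cancel_zero _ fun {T} a ha => ext p a ?_ ?_
    · have := hF.1 f
      rw [← cancel_mono (F.map f), Category.assoc, ← l.naturality, reassoc_of% ha, zero_comp, zero_comp]
    · have := hG.1 f
      rw [← cancel_mono (G.map f), Category.assoc, ← r.naturality, reassoc_of% ha, zero_comp, zero_comp]
  · obtain ⟨b, hb⟩ := hF.2.1
    obtain ⟨c, hc⟩ := hG.2.1
    exact ⟨max b c, fun p hp => (IsZero.iff_id_eq_zero _).mpr (ext _ _
      ((hb p (le_trans (le_max_left _ _) hp)).eq_of_tgt _ _)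
      ((hc p (le_trans (le_max_right _ _) hp)).eq_of_tgt _ _))⟩
  · obtain ⟨a, ha⟩ := hF.2.2
    obtain ⟨c, hc⟩ := hG.2.2
    refine ⟨min a c, fun p q f hp => ?_⟩
    have := ha f (le_trans hp (min_le_left _ _))
    have := hc f (le_trans hp (min_le_right _ _))
    refine ⟨⟨l.app q ≫ inv (F.map f) ≫ i.app p + r.app q ≫ inv (G.map f) ≫ j.app p, ?_, ?_⟩⟩
    · rw [Preadditive.comp_add, l.naturality_assoc, r.naturality_assoc,
        IsIso.hom_inv_id_assoc, IsIso.hom_inv_id_assoc, e]
    · rw [Preadditive.add_comp, Category.assoc, Category.assoc, Category.assoc, Category.assoc,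
        ← i.naturality, ← j.naturality, IsIso.inv_hom_id_assoc, IsIso.inv_hom_id_assoc, e]

instance : (IsFinFil A).IsClosedUnderBinaryProducts where
  limitsOfShape_le := by
    rintro X ⟨p⟩
    let F := p.diag.obj ⟨WalkingPair.left⟩
    let G := p.diag.obj ⟨WalkingPair.right⟩
    let e : X ≅ F ⊞ G :=
      IsLimit.conePointUniqueUpToIso
        ((IsLimit.postcomposeHomEquiv (diagramIsoPair p.diag) _).symm p.isLimit)
        (BinaryBiproduct.isLimit F G)
    refine isFinFil_of_split (p.prop_diag_obj _) (p.prop_diag_obj _) (e.hom ≫ biprod.fst)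
      (e.hom ≫ biprod.snd) (biprod.inl ≫ e.inv) (biprod.inr ≫ e.inv) ?_ (by simp [F]) (by simp [G])
      ?_ ?_
    · rw [Category.assoc, Category.assoc, ← Preadditive.comp_add, ← Category.assoc biprod.fst,
        ← Category.assoc biprod.snd, ← Preadditive.add_comp, biprod.total]
      simp
    · rw [Category.assoc, e.inv_hom_id_assoc]
      exact biprod.inl_snd
    · rw [Category.assoc, e.inv_hom_id_assoc]
      exact biprod.inr_fst

instance : (IsFinFil A).IsClosedUnderIsomorphisms :=
  ObjectProperty.IsClosedUnderIsomorphisms.mk fun {F G} e hF => by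
    obtain ⟨Z, hZ, hZ'⟩ := (IsFinFil A).exists_prop_of_containsZero
    exact isFinFil_of_split hF hZ' e.inv 0 e.hom 0 (by simp) (by simp) (hZ.eq_of_tgt _ _) (by simp)
      (by simp)

instance : (IsFinFil A).IsClosedUnderFiniteProducts := .mk'

instance : HasFiniteProducts (FilF A) := inferInstance

instance : HasFiniteBiproducts (FilF A) := HasFiniteBiproducts.of_hasFiniteProducts

instance : HasBinaryBiproducts (FilF A) := hasBinaryBiproducts_of_finite_biproducts _

instance (p : ℤ) : (grF A p).Additive where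
  map_add := (gr A p).map_add

/-- Exactness of the graded complexes at one spot. -/
lemma gr_exact_of_exactAt (K : CochainComplex (FilF A) ℤ) {i j k : ℤ} (hij : i + 1 = j) (hjk : j + 1 = k)
    (h : ∀ p, ((grCx p).obj K).ExactAt j) (p : ℤ) :
    ((ShortComplex.mk (K.d i j) (K.d j k) (K.d_comp_d i j k)).map (grF A p)).Exact :=
  (HomologicalComplex.exactAt_iff' _ i j k
    ((ComplexShape.up ℤ).prev_eq' hij) ((ComplexShape.up ℤ).next_eq' hjk)).mp (h p)

/-- A morphism from a filtered acyclic complex to a bounded below complex of filtered injective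
objects is null homotopic. -/
theorem nullhomotopic (K I : CochainComplex (FilF A) ℤ) (hK : IsFilteredAcyclic K) (a : ℤ)
    [I.IsStrictlyGE a] (hI : ∀ n, IsFilteredInjective (I.X n)) (φ : K ⟶ I) : Nonempty (Homotopy φ 0) := by
  classical
  let P : (∀ n, K.X n ⟶ I.X (n - 1)) → ℤ → Prop := fun h n =>
    φ.f n = h n ≫ I.d (n - 1) n + K.d n (n + 1) ≫ h (n + 1) ≫ eqToHom (congrArg I.X (add_sub_cancel_right n 1))
  have step : ∀ (h : ∀ n, K.X n ⟶ I.X (n - 1)) (n : ℤ), P h (n - 1) →
      ∃ k : K.X (n + 1) ⟶ I.X n, φ.f n = h n ≫ I.d (n - 1) n + K.d n (n + 1) ≫ k := by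
    intro h n hn
    obtain ⟨h₁, h₂⟩ := of_gr_exact _ _ _ (gr_exact_of_exactAt K (sub_add_cancel n 1) rfl fun p => hK p n)
    obtain ⟨k, hk⟩ := exists_desc h₁ h₂ (hI n) (φ.f n - h n ≫ I.d (n - 1) n) (by
      obtain ⟨m, hm⟩ : ∃ m, m = n - 1 + 1 := ⟨_, rfl⟩
      have h0 : φ.f (n - 1) ≫ I.d (n - 1) n = K.d (n - 1) n ≫ h n ≫ I.d (n - 1) n := by
        rw [show φ.f (n - 1) = _ from hn]
        have key : ∀ (m : ℤ) (hm : m = n) (e : m - 1 = n - 1),
            K.d (n - 1) m ≫ h m ≫ eqToHom (congrArg I.X e) ≫ I.d (n - 1) n =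
              K.d (n - 1) n ≫ h n ≫ I.d (n - 1) n := by
          rintro m rfl e
          simp
        rw [Preadditive.add_comp, Category.assoc, I.d_comp_d, comp_zero, zero_add,
          Category.assoc, Category.assoc]
        exact key _ (sub_add_cancel n 1) (by omega)
      rw [Preadditive.comp_sub, sub_eq_zero, ← φ.comm, h0])
    exact ⟨k, by rw [hk]; abel⟩
  choose next hnext using step
  have hz : ∀ (h : ∀ n, K.X n ⟶ I.X (n - 1)) n, n < a → P h n := fun h n hn =>
    (I.isZero_of_isStrictlyGE a n hn).eq_of_tgt _ _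
  let G : ∀ k : ℕ, { h : ∀ n, K.X n ⟶ I.X (n - 1) // ∀ n, n < a + k → P h n } := fun k =>
    Nat.rec ⟨fun _ => 0, fun n hn => hz (fun _ => 0) n (by have : ((Nat.zero : ℕ) : ℤ) = 0 := rfl; omega)⟩
      (fun j h => ⟨Function.update h.1 (a + j + 1)
          (next h.1 (a + j) (h.2 _ (by omega)) ≫ eqToHom (congrArg I.X (add_sub_cancel_right _ 1).symm)),
        fun n hn => by
        rcases eq_or_lt_of_le (show n ≤ a + j by omega) with rfl | hn
        · unfold P
          rw [Function.update_self, Function.update_of_ne (by omega), Category.assoc, eqToHom_trans,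
            eqToHom_refl, Category.comp_id]
          exact hnext _ _ _
        · unfold P
          rw [Function.update_of_ne (by omega), Function.update_of_ne (by omega)]
          exact h.2 n hn⟩) k
  have stab : ∀ (k j : ℕ), k ≤ j → ∀ n, n ≤ a + k → (G j).1 n = (G k).1 n := by
    intro k j hkj n hn
    induction j, hkj using Nat.le_induction with
    | base => rfl
    | succ j hj ih =>
      change Function.update (G j).1 (a + j + 1) _ n = _
      rw [Function.update_of_ne (by omega), ih]
  let h : ∀ n, K.X n ⟶ I.X (n - 1) := fun n => (G (n - a).toNat).1 n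
  have hP : ∀ n, P h n := fun n => by
    have := (G (n + 1 - a).toNat).2
    rcases lt_or_ge n a with hn | hn
    · exact hz h n hn
    have e : h n = (G (n + 1 - a).toNat).1 n := (stab _ _ (by omega) _ (by omega)).symm
    unfold P at this ⊢
    rw [e]
    exact this n (by omega)
  refine ⟨{
    hom := fun i j => if hij : j + 1 = i then h i ≫ eqToHom (congrArg I.X (show i - 1 = j by omega)) else 0
    zero := fun i j hij => dif_neg hij
    comm := fun n => ?_ }⟩
  rw [dNext_eq _ (show (ComplexShape.up ℤ).Rel n (n + 1) from rfl),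
    prevD_eq _ (show (ComplexShape.up ℤ).Rel (n - 1) n from sub_add_cancel n 1)]
  rw [dif_pos rfl, dif_pos (sub_add_cancel n 1), eqToHom_refl, Category.comp_id,
    HomologicalComplex.zero_f, add_zero, add_comm]
  exact hP n

/-- Morphisms from a filtered acyclic complex vanish in the homotopy category. -/
theorem eq_zero_of_acyclic {K I : CochainComplex (FilF A) ℤ} (hK : IsFilteredAcyclic K) (a : ℤ)
    [I.IsStrictlyGE a] (hI : ∀ n, IsFilteredInjective (I.X n))
    (f : (HomotopyCategory.quotient (FilF A) (ComplexShape.up ℤ)).obj K ⟶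
      (HomotopyCategory.quotient (FilF A) (ComplexShape.up ℤ)).obj I) : f = 0 := by
  obtain ⟨φ, rfl⟩ := (HomotopyCategory.quotient (FilF A) (ComplexShape.up ℤ)).map_surjective f
  obtain ⟨H⟩ := nullhomotopic K I hK a hI φ
  rw [HomotopyCategory.eq_of_homotopy _ _ H, Functor.map_zero]

/-- The mapping cone of a filtered quasi-isomorphism is filtered acyclic. -/
theorem cone_acyclic {K L : CochainComplex (FilF A) ℤ} (α : K ⟶ L) (hα : IsFilteredQuasiIso α) :
    IsFilteredAcyclic (CochainComplex.mappingCone α) := by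
  intro p n
  have h1 := (HomotopyCategory.subcategoryAcyclic A).trW_iff_of_distinguished _
    (HomotopyCategory.mappingCone_triangleh_distinguished ((grCx p).map α))
  rw [← HomotopyCategory.quasiIso_eq_trW_subcategoryAcyclic] at h1
  have h2 := (HomotopyCategory.quotient_obj_mem_subcategoryAcyclic_iff_exactAt _).mp
    (h1.mp ((HomotopyCategory.quotient_map_mem_quasiIso_iff _).mpr
      ((HomologicalComplex.mem_quasiIso_iff _).mpr (hα p)))) n
  exact h2.of_iso (CochainComplex.mappingCone.mapHomologicalComplexIso α (grF A p)).symm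

instance (I : CochainComplex (FilF A) ℤ) (a : ℤ) [I.IsStrictlyGE a] :
    (I⟦(1 : ℤ)⟧).IsStrictlyGE (a - 1) :=
  I.isStrictlyGE_shift a 1 (a - 1) (by omega)

/-- Homotopy classes into bounded below filtered injective complexes see filtered quasi-isomorphisms
as isomorphisms. -/
theorem precomp_bijective (I : CochainComplex (FilF A) ℤ) (a : ℤ) [I.IsStrictlyGE a]
    (hI : ∀ n, IsFilteredInjective (I.X n)) {K L : CochainComplex (FilF A) ℤ} (α : K ⟶ L)
    (hα : IsFilteredQuasiIso α) :
    Function.Bijective (fun β : (HomotopyCategory.quotient (FilF A) (ComplexShape.up ℤ)).obj L ⟶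
        (HomotopyCategory.quotient (FilF A) (ComplexShape.up ℤ)).obj I =>
      (HomotopyCategory.quotient (FilF A) (ComplexShape.up ℤ)).map α ≫ β) := by
  let Q := HomotopyCategory.quotient (FilF A) (ComplexShape.up ℤ)
  let T := CochainComplex.mappingCone.triangleh α
  have hT : T ∈ distTriang _ := HomotopyCategory.mappingCone_triangleh_distinguished α
  have hC := cone_acyclic α hα
  refine ⟨fun β₁ β₂ h => ?_, fun γ => ?_⟩
  · obtain ⟨g, hg⟩ := Triangle.yoneda_exact₂ T hT (β₁ - β₂)
      ((Preadditive.comp_sub _ _ _).trans (sub_eq_zero.mpr h))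
    rw [← sub_eq_zero, hg, eq_zero_of_acyclic hC a hI g]
    exact comp_zero
  · have h0 : T.mor₃ ≫ γ⟦(1 : ℤ)⟧' = 0 := by
      have := eq_zero_of_acyclic (I := I⟦(1 : ℤ)⟧) hC (a - 1) (fun n => hI _)
        (T.mor₃ ≫ γ⟦(1 : ℤ)⟧' ≫ (Q.commShiftIso (1 : ℤ)).inv.app I)
      exact (cancel_mono ((Q.commShiftIso (1 : ℤ)).inv.app I)).mp
        (((Category.assoc _ _ _).trans this).trans zero_comp.symm)
    obtain ⟨g, hg⟩ := Triangle.yoneda_exact₂ T.rotate.rotate
      (rot_of_distTriang _ (rot_of_distTriang _ hT)) (γ⟦(1 : ℤ)⟧') h0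
    obtain ⟨g', rfl⟩ : ∃ g' : Q.obj L ⟶ Q.obj I,
        (shiftFunctor (HomotopyCategory (FilF A) (ComplexShape.up ℤ)) (1 : ℤ)).map g' = g :=
      Functor.map_surjective _ g
    refine ⟨-g', (shiftFunctor (HomotopyCategory (FilF A) (ComplexShape.up ℤ)) (1 : ℤ)).map_injective ?_⟩
    refine Eq.trans ?_ hg.symm
    change _ = (-((shiftFunctor (HomotopyCategory (FilF A) (ComplexShape.up ℤ)) (1 : ℤ)).map (Q.map α))) ≫
      (shiftFunctor (HomotopyCategory (FilF A) (ComplexShape.up ℤ)) (1 : ℤ)).map g'
    rw [Preadditive.neg_comp, ← Functor.map_comp, ← Functor.map_neg, ← Preadditive.comp_neg]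

end FilDLib

namespace FilDLib

variable {A : Type u} [Category.{v} A] [Abelian A]

/-- Homotopic morphisms from a single complex in degree zero into a complex vanishing in negative
degrees are equal. -/
lemma eq_of_homotopy_single {X : FilF A} {J : CochainComplex (FilF A) ℤ} [J.IsStrictlyGE 0]
    {f g : (CochainComplex.singleFunctor (FilF A) 0).obj X ⟶ J} (H : Homotopy f g) : f = g := by
  refine HomologicalComplex.hom_ext _ _ fun n => ?_
  have h := H.comm n
  have h0 : ∀ i j, H.hom i j = 0 := by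
    intro i j
    by_cases hij : j + 1 = i
    · by_cases hi : i = 0
      · exact (J.isZero_of_isStrictlyGE 0 j (by omega)).eq_of_tgt _ _
      · exact (HomologicalComplex.isZero_single_obj_X (ComplexShape.up ℤ) 0 X i hi).eq_of_src _ _
    · exact H.zero i j hij
  have e : H.hom = 0 := by
    funext i j
    exact h0 i j
  simpa [e] using h

/-- Morphisms of single complexes extend to bounded below filtered injective resolutions. -/
theorem resolution_map {X Y : FilF A} (f : X ⟶ Y) (I : CochainComplex (FilF A) ℤ)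
    (a : (CochainComplex.singleFunctor (FilF A) 0).obj X ⟶ I) (ha : IsFilteredQuasiIso a)
    (J : CochainComplex (FilF A) ℤ) [J.IsStrictlyGE 0] (hJ : ∀ n, IsFilteredInjective (J.X n))
    (b : (CochainComplex.singleFunctor (FilF A) 0).obj Y ⟶ J) :
    ∃ φ : I ⟶ J, a ≫ φ = (CochainComplex.singleFunctor (FilF A) 0).map f ≫ b := by
  obtain ⟨ψ, hψ⟩ := (precomp_bijective J 0 hJ a ha).2
    ((HomotopyCategory.quotient _ _).map ((CochainComplex.singleFunctor (FilF A) 0).map f ≫ b))
  obtain ⟨φ, rfl⟩ := (HomotopyCategory.quotient (FilF A) (ComplexShape.up ℤ)).map_surjective ψ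
  exact ⟨φ, eq_of_homotopy_single (HomotopyCategory.homotopyOfEq _ _
    (((HomotopyCategory.quotient _ _).map_comp a φ).trans hψ))⟩

end FilDLib
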