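import Groth.Agent.FilDLib.Basic
import Mathlib.CategoryTheory.Limits.Shapes.Products
import Mathlib.Data.Int.Interval
import Mathlib.CategoryTheory.Preadditive.Injective.Basic

/-!
# Embedding finite filtered objects into filtered injective objects; cokernels
-/

set_option autoImplicit false

universe v u

open CategoryTheory CategoryTheory.Limits Opposite FilD

namespace FilDLib

variable {A : Type u} [Category.{v} A] [Abelian A]

lemma mono_of_steps (F : ℤᵒᵖ ⥤ A) (h : ∀ p, Mono (F.map (stepHom p))) ⦃p q : ℤᵒᵖ⦄ (f : p ⟶ q) :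
    Mono (F.map f) := by
  obtain ⟨p⟩ := p
  obtain ⟨q⟩ := q
  have key : ∀ p, ∀ hqp : q ≤ p, Mono (F.map (homOfLE hqp).op) := by
    refine fun p hqp => Int.leInduction (m := q)
      (motive := fun p hqp => Mono (F.map (homOfLE hqp).op)) ?_ (fun n hn ih => ?_) p hqp
    · rw [show (homOfLE (le_refl q)).op = 𝟙 (op q) from rfl, F.map_id]
      infer_instance
    · rw [show (homOfLE (hn.trans (Int.le_add_one le_rfl))).op = stepHom n ≫ (homOfLE hn).op from rfl,
        F.map_comp]
      exact @mono_comp _ _ _ _ _ _ (h n) _ ih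
  exact key p (leOfHom f.unop)

/-- The cokernel of a strict morphism is finite filtered. -/
lemma isFinFil_cokernel {X Y : FilF A} {φ : X ⟶ Y} (hφ : Lift φ) : IsFinFil A (cokernel φ.hom) := by
  have hepi : ∀ q, Epi ((cokernel.π φ.hom).app q) := fun q =>
    inferInstanceAs (Epi (((evaluation ℤᵒᵖ A).obj q).map (cokernel.π φ.hom)))
  have hmono : ∀ ⦃p q : ℤᵒᵖ⦄ (f : p ⟶ q), Mono ((cokernel φ.hom).map f) := by
    refine mono_of_steps _ fun p => Preadditive.mono_of_cancel_zero _ fun {T} c hc => ?_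
    obtain ⟨T₁, π₁, _, y, hy⟩ :=
      surjective_up_to_refinements_of_epi ((cokernel.π φ.hom).app (op (p + 1))) c
    have hex : ∀ q : ℤ, (ShortComplex.mk (ap φ q) ((cokernel.π φ.hom).app (op q))
        (by rw [← NatTrans.comp_app, cokernel.condition]; rfl)).Exact := fun q =>
      (ShortComplex.exact_of_g_is_cokernel
        (ShortComplex.mk φ.hom _ (cokernel.condition φ.hom)) (cokernelIsCokernel _)).map
          ((evaluation ℤᵒᵖ A).obj (op q))
    have h0 : (y ≫ tr Y p) ≫ (cokernel.π φ.hom).app (op p) = 0 := by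
      rw [Category.assoc, (cokernel.π φ.hom).naturality, ← reassoc_of% hy, hc, comp_zero]
    obtain ⟨T₂, π₂, _, x, hx⟩ := (hex p).exact_up_to_refinements _ h0
    have hx' : π₂ ≫ y ≫ tr Y p = x ≫ ap φ p := hx
    obtain ⟨T₃, π₃, _, x', hx''⟩ := hφ p T₂ x (π₂ ≫ y) (by rw [← hx', Category.assoc])
    rw [← cancel_epi π₁, ← cancel_epi π₂, ← cancel_epi π₃, hy, reassoc_of% hx'']
    simp only [comp_zero]
    exact (congrArg (x' ≫ ·) (congr_app (cokernel.condition φ.hom) (op (p + 1)))).trans comp_zero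
  refine ⟨hmono, ?_, ?_⟩
  · obtain ⟨b, hb⟩ := Y.property.2.1
    exact ⟨b, fun p hp => IsZero.of_epi ((cokernel.π φ.hom).app (op p)) (hb p hp)⟩
  · obtain ⟨a, ha⟩ := Y.property.2.2
    refine ⟨a, fun p q f hp => ?_⟩
    have := ha f hp
    have := hmono f
    have : Epi ((cokernel.π φ.hom).app p ≫ (cokernel φ.hom).map f) := by
      rw [← (cokernel.π φ.hom).naturality]
      exact epi_comp _ _
    have : Epi ((cokernel φ.hom).map f) := epi_of_epi ((cokernel.π φ.hom).app p) _
    exact isIso_of_mono_of_epi _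

/-- The cokernel of a strict morphism. -/
noncomputable def coker {X Y : FilF A} (φ : X ⟶ Y) (hφ : Lift φ) : FilF A :=
  ⟨cokernel φ.hom, isFinFil_cokernel hφ⟩

/-- The projection to the cokernel. -/
noncomputable def cokerπ {X Y : FilF A} (φ : X ⟶ Y) (hφ : Lift φ) : Y ⟶ coker φ hφ :=
  ObjectProperty.homMk (cokernel.π φ.hom)

@[reassoc (attr := simp)]
lemma comp_cokerπ {X Y : FilF A} (φ : X ⟶ Y) (hφ : Lift φ) : φ ≫ cokerπ φ hφ = 0 :=
  ObjectProperty.hom_ext _ (cokernel.condition φ.hom)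

instance {X Y : FilF A} (φ : X ⟶ Y) (hφ : Lift φ) : Epi (cokerπ φ hφ) :=
  ⟨fun g h e => ObjectProperty.hom_ext _
    ((cancel_epi (cokernel.π φ.hom)).mp (congrArg InducedCategory.Hom.hom e))⟩

instance {X Y : FilF A} (φ : X ⟶ Y) (hφ : Lift φ) (p : ℤ) : Epi (ap (cokerπ φ hφ) p) :=
  inferInstanceAs (Epi (((evaluation ℤᵒᵖ A).obj (op p)).map (cokernel.π φ.hom)))

lemma cokerπ_lvExact {X Y : FilF A} (φ : X ⟶ Y) (hφ : Lift φ) : LvExact φ (cokerπ φ hφ) := fun p T y hy =>
  ((ShortComplex.exact_of_g_is_cokernel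
    (ShortComplex.mk φ.hom _ (cokernel.condition φ.hom)) (cokernelIsCokernel _)).map
      ((evaluation ℤᵒᵖ A).obj (op p))).exact_up_to_refinements y hy

lemma lift_of_epi {X Y : FilF A} (g : X ⟶ Y) [∀ p, Epi (ap g p)] : Lift g := fun p _ _ z _ =>
  surjective_up_to_refinements_of_epi (ap g (p + 1)) z

/-- Descent to the cokernel. -/
noncomputable def cokerDesc {X Y Z : FilF A} (φ : X ⟶ Y) (hφ : Lift φ) (k : Y ⟶ Z) (hk : φ ≫ k = 0) :
    coker φ hφ ⟶ Z :=
  ObjectProperty.homMk (cokernel.desc φ.hom k.hom (congrArg InducedCategory.Hom.hom hk))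

@[reassoc (attr := simp)]
lemma cokerπ_desc {X Y Z : FilF A} (φ : X ⟶ Y) (hφ : Lift φ) (k : Y ⟶ Z) (hk : φ ≫ k = 0) :
    cokerπ φ hφ ≫ cokerDesc φ hφ k hk = k :=
  ObjectProperty.hom_ext _ (cokernel.π_desc _ _ _)

section Hull

variable (a b : ℤ) (J : ℤ → A)

/-- Indices of the components at level `p`. -/
abbrev HullIdx (p : ℤ) : Type := { q : (Finset.Ico a b : Finset ℤ) // p ≤ q.1 }

/-- The filtered injective object with graded pieces `J q`, `a ≤ q < b`. -/
noncomputable def hullFunctor : ℤᵒᵖ ⥤ A where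
  obj p := ∏ᶜ fun q : HullIdx a b p.unop => J q.1.1
  map {p p'} f := Pi.lift fun q =>
    if h : p.unop ≤ q.1.1 then Pi.π (fun q : HullIdx a b p.unop => J q.1.1) ⟨q.1, h⟩ else 0
  map_id p := by
    refine Pi.hom_ext _ _ fun q => ?_
    rw [Pi.lift_π, dif_pos q.2, Category.id_comp]
  map_comp {p p' p''} f g := by
    refine Pi.hom_ext _ _ fun q => ?_
    rw [Pi.lift_π, Category.assoc, Pi.lift_π]
    have hf : p'.unop ≤ p.unop := leOfHom f.unop
    by_cases h : p.unop ≤ q.1.1
    · rw [dif_pos h, dif_pos (hf.trans h), Pi.lift_π, dif_pos h]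
    · rw [dif_neg h]
      split_ifs with h'
      · rw [Pi.lift_π, dif_neg h]
      · simp

/-- A retraction of the transition maps. -/
noncomputable def hullRetr {p p' : ℤᵒᵖ} (f : p ⟶ p') :
    (hullFunctor a b J).obj p' ⟶ (hullFunctor a b J).obj p :=
  Pi.lift fun q : HullIdx a b p.unop =>
    Pi.π (fun q : HullIdx a b p'.unop => J q.1.1) ⟨q.1, (leOfHom f.unop).trans q.2⟩

/-- The projection to a component. -/
noncomputable def hpr (p : ℤᵒᵖ) (q : HullIdx a b p.unop) : (hullFunctor a b J).obj p ⟶ J q.1.1 :=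
  Pi.π (fun q : HullIdx a b p.unop => J q.1.1) q

variable {a b J} in
lemma hull_hom_ext {p : ℤᵒᵖ} {T : A} {x y : T ⟶ (hullFunctor a b J).obj p}
    (h : ∀ q, x ≫ hpr a b J p q = y ≫ hpr a b J p q) : x = y :=
  Pi.hom_ext _ _ h

lemma map_hpr {p p' : ℤᵒᵖ} (f : p ⟶ p') (q : HullIdx a b p'.unop) :
    (hullFunctor a b J).map f ≫ hpr a b J p' q =
      if h : p.unop ≤ q.1.1 then hpr a b J p ⟨q.1, h⟩ else 0 :=
  Pi.lift_π _ _

lemma retr_hpr {p p' : ℤᵒᵖ} (f : p ⟶ p') (q : HullIdx a b p.unop) :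
    hullRetr a b J f ≫ hpr a b J p q = hpr a b J p' ⟨q.1, (leOfHom f.unop).trans q.2⟩ :=
  Pi.lift_π _ _

lemma hull_map_retr {p p' : ℤᵒᵖ} (f : p ⟶ p') :
    (hullFunctor a b J).map f ≫ hullRetr a b J f = 𝟙 _ := by
  refine hull_hom_ext fun q => ?_
  rw [Category.assoc, retr_hpr, map_hpr, dif_pos q.2, Category.id_comp]

lemma isFinFil_hull : IsFinFil A (hullFunctor a b J) := by
  refine ⟨fun p q f => ?_, ⟨b, fun p hp => ?_⟩, ⟨a, fun p q f hp => ?_⟩⟩
  · exact mono_of_mono_fac (hull_map_retr a b J f)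
  · refine (IsZero.iff_id_eq_zero _).mpr (hull_hom_ext fun q => ?_)
    have := Finset.mem_Ico.mp q.1.2
    have := q.2
    simp only [unop_op] at this
    omega
  · refine ⟨hullRetr a b J f, hull_map_retr a b J f, hull_hom_ext fun i => ?_⟩
    rw [Category.assoc, Category.id_comp, map_hpr, dif_pos (hp.trans (Finset.mem_Ico.mp i.1.2).1), retr_hpr]

/-- The hull as a filtered object. -/
noncomputable def hull : FilF A := ⟨hullFunctor a b J, isFinFil_hull a b J⟩

/-- The projection of a level to a component. -/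
noncomputable def pr (p : ℤ) (q : HullIdx a b p) : lv (hull a b J) p ⟶ J q.1.1 := hpr a b J (op p) q

lemma tr_pr (p : ℤ) (q : HullIdx a b p) :
    tr (hull a b J) p ≫ pr a b J p q = if h : p + 1 ≤ q.1.1 then pr a b J (p + 1) ⟨q.1, h⟩ else 0 :=
  map_hpr a b J (stepHom p) q

lemma hull_injective (hJ : ∀ q, Injective (J q)) : IsFilteredInjective (hull a b J) := by
  intro p
  have : Injective (lv (hull a b J) p) :=
    inferInstanceAs (Injective (∏ᶜ fun q : HullIdx a b p => J q.1.1))
  let s := ShortComplex.Splitting.ofExactOfRetraction _ (grπ_exact (hull a b J) p)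
    (hullRetr a b J (stepHom p)) (hull_map_retr a b J (stepHom p)) (epi_grπ (hull a b J) p)
  refine ⟨fun {X Y} g f _ => ⟨Injective.factorThru (g ≫ s.s) f ≫ grπ (hull a b J) p, ?_⟩⟩
  rw [Injective.comp_factorThru_assoc, Category.assoc]
  exact (congrArg (g ≫ ·) s.s_g).trans (Category.comp_id g)

end Hull

/-- Every finite filtered object has a strict monomorphism into a filtered injective one. -/
theorem exists_hull [EnoughInjectives A] (X : FilF A) :
    ∃ (I : FilF A) (u : X ⟶ I), IsFilteredInjective I ∧ (∀ p, Mono (ap u p)) ∧ Lift u := by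
  obtain ⟨b, hb⟩ := X.property.2.1
  obtain ⟨a, ha⟩ := X.property.2.2
  have hiso : ∀ p : ℤ, IsIso (X.obj.map (homOfLE (min_le_right p a)).op) := fun p => ha _ le_rfl
  let ρ : ∀ p, lv X p ⟶ lv X a := fun p =>
    X.obj.map (homOfLE (min_le_left p a)).op ≫ inv (X.obj.map (homOfLE (min_le_right p a)).op)
  have hρ : ∀ {p p' : ℤᵒᵖ} (f : p ⟶ p'), X.obj.map f ≫ ρ p'.unop = ρ p.unop := by
    intro ⟨p⟩ ⟨p'⟩ f
    have h : p' ≤ p := leOfHom f.unop
    have e : X.obj.map (homOfLE (min_le_right p' a)).op =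
        X.obj.map (homOfLE (min_le_right p a)).op ≫
          X.obj.map (homOfLE (min_le_min_right a h)).op := by
      rw [← X.obj.map_comp]
      exact congrArg X.obj.map (Quiver.Hom.unop_inj (Subsingleton.elim _ _))
    rw [← cancel_mono (X.obj.map (homOfLE (min_le_right p' a)).op)]
    simp only [ρ, Category.assoc, IsIso.inv_hom_id, Category.comp_id]
    rw [e, IsIso.inv_hom_id_assoc, ← X.obj.map_comp, ← X.obj.map_comp]
    exact congrArg X.obj.map (Quiver.Hom.unop_inj (Subsingleton.elim _ _))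
  have hρm : ∀ p, Mono (ρ p) := fun p => mono_comp _ _
  let J : ℤ → A := fun q => Injective.under (cokernel (ρ (q + 1)))
  let θ : ∀ q, lv X a ⟶ J q := fun q => cokernel.π (ρ (q + 1)) ≫ Injective.ι _
  let u : X ⟶ hull a b J :=
    ObjectProperty.homMk
      { app := fun p => Pi.lift fun q : HullIdx a b p.unop => ρ p.unop ≫ θ q.1.1
        naturality := fun p p' f => by
          refine hull_hom_ext fun q => ?_
          refine (Category.assoc _ _ _).trans (Eq.trans ?_ (Category.assoc _ _ _).symm)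
          refine ((congrArg (X.obj.map f ≫ ·) (Pi.lift_π _ _)).trans ?_).trans
            (congrArg (Pi.lift (fun q : HullIdx a b p.unop => ρ p.unop ≫ θ q.1.1) ≫ ·)
              (map_hpr a b J f q).symm)
          rw [reassoc_of% (hρ f)]
          split_ifs with h
          · exact (Pi.lift_π (fun q : HullIdx a b p.unop => ρ p.unop ≫ θ q.1.1) ⟨q.1, h⟩).symm
          · have e : _ ≫ ρ (q.1.1 + 1) = ρ p.unop := hρ (homOfLE (show q.1.1 + 1 ≤ p.unop by omega)).op
            refine Eq.trans ?_ comp_zero.symm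
            rw [← e, Category.assoc]
            exact (congrArg (X.obj.map _ ≫ ·) ((cokernel.condition_assoc _ _).trans zero_comp)).trans comp_zero }
  have hu : ∀ (p : ℤ) (q : HullIdx a b p),
      ap u p ≫ pr a b J p q = ρ p ≫ θ q.1.1 := fun p q => Pi.lift_π _ _
  -- an element whose `p`-th component vanishes comes from the next step
  have key : ∀ (p : ℤ) (hp : a ≤ p ∧ p < b) {T : A} (x : T ⟶ lv X p),
      x ≫ ap u p ≫ pr a b J p ⟨⟨p, Finset.mem_Ico.mpr hp⟩, le_rfl⟩ = 0 →
      ∃ (T' : A) (π : T' ⟶ T) (_ : Epi π) (x' : T' ⟶ lv X (p + 1)), π ≫ x = x' ≫ tr X p := by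
    intro p hp T x hx
    rw [hu] at hx
    simp only [θ, ← Category.assoc] at hx
    obtain ⟨T', π, _, x', hx'⟩ := (ShortComplex.exact_of_g_is_cokernel
      (ShortComplex.mk (ρ (p + 1)) _ (cokernel.condition _)) (cokernelIsCokernel _)).exact_up_to_refinements
        (x ≫ ρ p) ((cancel_mono (Injective.ι _)).mp (hx.trans zero_comp.symm))
    have hx'' : π ≫ x ≫ ρ p = x' ≫ ρ (p + 1) := hx'
    refine ⟨T', π, inferInstance, x', (cancel_mono (ρ p)).mp ?_⟩
    rw [Category.assoc, hx'', Category.assoc]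
    exact (congrArg (x' ≫ ·) (hρ (stepHom p))).symm
  have hmono : ∀ p, Mono (ap u p) := by
    intro p
    induction hk : (b - p).toNat generalizing p with
    | zero => exact ⟨fun g h _ => (hb p (by omega)).eq_of_tgt _ _⟩
    | succ k ih =>
      have := ih (p + 1) (by omega)
      rcases lt_or_ge p a with hp | hp
      · have : IsIso (tr X p) := by
          have h1 := ha (homOfLE (Int.le_add_one le_rfl : p ≤ p + 1)).op (by simp; omega)
          exact h1
        have : Mono (ap u (p + 1) ≫ tr (hull a b J) p) := mono_comp _ _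
        rw [← tr_ap] at this
        have e : ap u p = inv (tr X p) ≫ tr X p ≫ ap u p := by simp
        rw [e]
        exact mono_comp _ _
      · refine Preadditive.mono_of_cancel_zero _ fun {T} x hx => ?_
        obtain ⟨T', π, _, x', hx'⟩ := key p ⟨hp, by omega⟩ x (by rw [reassoc_of% hx, zero_comp])
        have h0 : x' = 0 := by
          rw [← cancel_mono (ap u (p + 1)), ← cancel_mono (tr (hull a b J) p), Category.assoc, ← tr_ap,
            ← reassoc_of% hx', hx]
          simp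
        exact (cancel_epi π).mp (by rw [hx', h0, zero_comp, comp_zero])
  refine ⟨hull a b J, u, hull_injective a b J (fun q => inferInstanceAs (Injective (Injective.under _))),
    hmono, fun p T x z hxz => ?_⟩
  have fin : ∀ {T' : A} (π : T' ⟶ T) (x' : T' ⟶ lv X (p + 1)), π ≫ x = x' ≫ tr X p →
      π ≫ z = x' ≫ ap u (p + 1) := fun π x' h => by
    rw [← cancel_mono (tr (hull a b J) p), Category.assoc, Category.assoc, ← tr_ap, ← reassoc_of% h, hxz]
  rcases lt_or_ge p a with hp | hp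
  · have : IsIso (tr X p) := by
      have h1 := ha (homOfLE (Int.le_add_one le_rfl : p ≤ p + 1)).op (by simp; omega)
      exact h1
    exact ⟨T, 𝟙 T, inferInstance, x ≫ inv (tr X p), fin (𝟙 T) _ (by simp)⟩
  rcases lt_or_ge p b with hp' | hp'
  · obtain ⟨T', π, _, x', hx'⟩ := key p ⟨hp, hp'⟩ x (by
      rw [reassoc_of% hxz]
      rw [tr_pr, dif_neg, comp_zero]
      simp)
    exact ⟨T', π, inferInstance, x', fin π x' hx'⟩
  · exact ⟨T, 𝟙 T, inferInstance, 0, fin (𝟙 T) 0 (by rw [(hb p hp').eq_of_tgt x 0]; simp)⟩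

end FilDLib
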