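import Groth.Agent.FilDLib.Cplx
import Groth.Agent.FilDLib.Hull

/-!
# The filtered horseshoe lemma
-/

set_option autoImplicit false

universe v u

open CategoryTheory CategoryTheory.Limits Opposite FilD

namespace FilDLib

variable {A : Type u} [Category.{v} A] [Abelian A]

lemma epi_of_ap {X Y : FilF A} (g : X ⟶ Y) [∀ p, Epi (ap g p)] : Epi g :=
  ⟨fun k l e => hom_ext fun p => (cancel_epi (ap g p)).mp (congrArg (fun m => ap m p) e)⟩

/-- The degree zero object of a single complex. -/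
noncomputable def X0 (X : FilF A) : ((CochainComplex.singleFunctor (FilF A) 0).obj X).X 0 ≅ X :=
  HomologicalComplex.singleObjXSelf (ComplexShape.up ℤ) 0 X

lemma mkHomFromSingle_f0 {X : FilF A} {K : CochainComplex (FilF A) ℤ} (φ : X ⟶ K.X 0)
    (hφ : ∀ k, (ComplexShape.up ℤ).Rel 0 k → φ ≫ K.d 0 k = 0) :
    (HomologicalComplex.mkHomFromSingle φ hφ :
      (CochainComplex.singleFunctor (FilF A) 0).obj X ⟶ K).f 0 = (X0 X).hom ≫ φ :=
  HomologicalComplex.mkHomFromSingle_f φ hφ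

lemma single_map_f0 {X Y : FilF A} (u : X ⟶ Y) :
    ((CochainComplex.singleFunctor (FilF A) 0).map u).f 0 = (X0 X).hom ≫ u ≫ (X0 Y).inv :=
  HomologicalComplex.single_map_f_self (ComplexShape.up ℤ) 0 u

/-- A degree zero component. -/
noncomputable def comp0 {X : FilF A} {I : CochainComplex (FilF A) ℤ}
    (a : (CochainComplex.singleFunctor (FilF A) 0).obj X ⟶ I) : X ⟶ I.X 0 :=
  (X0 X).inv ≫ a.f 0

lemma comp0_d {X : FilF A} {I : CochainComplex (FilF A) ℤ}
    (a : (CochainComplex.singleFunctor (FilF A) 0).obj X ⟶ I) : comp0 a ≫ I.d 0 1 = 0 := by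
  rw [comp0, Category.assoc, a.comm 0 1]
  have : ((CochainComplex.singleFunctor (FilF A) 0).obj X).d 0 1 = 0 :=
    (HomologicalComplex.isZero_single_obj_X (ComplexShape.up ℤ) 0 X 1 (by omega)).eq_of_tgt _ _
  rw [this, zero_comp, comp_zero]

lemma single_hom_ext {X : FilF A} {I : CochainComplex (FilF A) ℤ}
    {a b : (CochainComplex.singleFunctor (FilF A) 0).obj X ⟶ I} (h : comp0 a = comp0 b) : a = b :=
  HomologicalComplex.from_single_hom_ext (by
    have := congrArg ((X0 X).hom ≫ ·) h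
    simp [comp0] at this
    exact this)

/-- The horseshoe lemma. -/
theorem horseshoe [EnoughInjectives A] (S : ShortComplex (FilF A))
    (hS : ∀ p : ℤ, (S.map ((IsFinFil A).ι ⋙ (evaluation ℤᵒᵖ A).obj (op p))).ShortExact)
    (I : CochainComplex (FilF A) ℤ) [I.IsStrictlyGE 0] (hI : ∀ n, IsFilteredInjective (I.X n))
    (a : (CochainComplex.singleFunctor (FilF A) 0).obj S.X₁ ⟶ I)
    (J : CochainComplex (FilF A) ℤ)
    (c : (CochainComplex.singleFunctor (FilF A) 0).obj S.X₃ ⟶ J) (hc : IsFilteredQuasiIso c) :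
    ∃ (M : CochainComplex (FilF A) ℤ) (α : I ⟶ M) (β : M ⟶ J)
      (b : (CochainComplex.singleFunctor (FilF A) 0).obj S.X₂ ⟶ M),
      (∀ n, ∃ (r : M.X n ⟶ I.X n) (s : J.X n ⟶ M.X n), α.f n ≫ r = 𝟙 _ ∧ s ≫ β.f n = 𝟙 _ ∧
        α.f n ≫ β.f n = 0 ∧ r ≫ α.f n + β.f n ≫ s = 𝟙 _) ∧
      a ≫ α = (CochainComplex.singleFunctor (FilF A) 0).map S.f ≫ b ∧
        b ≫ β = (CochainComplex.singleFunctor (FilF A) 0).map S.g ≫ c := by
  have hfm : ∀ p, Mono (ap S.f p) := fun p => (hS p).mono_f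
  have hge : ∀ p, Epi (ap S.g p) := fun p => (hS p).epi_g
  have hge' : Epi S.g := epi_of_ap S.g
  have hex : LvExact S.f S.g := fun p T y hy => (hS p).exact.exact_up_to_refinements y hy
  have hfl : Lift S.f := fun p T y z hy => hex (p + 1) T z (by
    rw [← cancel_mono (tr S.X₃ p), Category.assoc, ← tr_ap, ← reassoc_of% hy, ap_w S.f S.g S.zero]
    simp)
  -- the map from the middle term and the connecting map
  obtain ⟨β₀, hβ₀⟩ := exists_desc (lvExact_of_mono (0 : S.X₁ ⟶ S.X₁) S.f) hfl (hI 0) (comp0 a) zero_comp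
  obtain ⟨γ, hγ⟩ := exists_desc hex (lift_of_epi S.g) (hI 1) (β₀ ≫ I.d 0 1)
    (by rw [reassoc_of% hβ₀, comp0_d])
  have hγd : γ ≫ I.d 1 2 = 0 := by
    rw [← cancel_epi S.g, reassoc_of% hγ, I.d_comp_d, comp_zero, comp_zero]
  let γ' : S.X₃ ⟶ (I⟦(1 : ℤ)⟧).X 0 := γ
  let Γ : (CochainComplex.singleFunctor (FilF A) 0).obj S.X₃ ⟶ I⟦(1 : ℤ)⟧ :=
    HomologicalComplex.mkHomFromSingle γ' (by
      rintro k (rfl : (0 : ℤ) + 1 = k)
      change γ ≫ ((1 : ℤ).negOnePow • I.d 1 2) = 0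
      simp [hγd])
  -- extend along the resolution of the last term
  obtain ⟨ψ', hψ'⟩ := (precomp_bijective (I⟦(1 : ℤ)⟧) (0 - 1) (fun n => hI _) c hc).2
    ((HomotopyCategory.quotient _ _).map (-Γ))
  obtain ⟨ψ, rfl⟩ := (HomotopyCategory.quotient (FilF A) (ComplexShape.up ℤ)).map_surjective ψ'
  let H : Homotopy (c ≫ ψ) (-Γ) := HomotopyCategory.homotopyOfEq _ _
    (((HomotopyCategory.quotient _ _).map_comp c ψ).trans hψ')
  let e : S.X₃ ⟶ I.X 0 :=
    (X0 S.X₃).inv ≫ H.hom 0 (-1) ≫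
      eqToHom (show (I⟦(1 : ℤ)⟧).X (-1) = I.X 0 from congrArg I.X (neg_add_cancel (1 : ℤ)))
  let h : ∀ n, J.X n ⟶ I.X (n + 1) := fun n => ψ.f n
  have hh : ∀ n, h n ≫ I.d (n + 1) (n + 1 + 1) + J.d n (n + 1) ≫ h (n + 1) = 0 := by
    intro n
    have e' := ψ.comm n (n + 1)
    have e'' : h n ≫ ((1 : ℤ).negOnePow • I.d (n + 1) (n + 1 + 1)) = J.d n (n + 1) ≫ h (n + 1) := e'
    rw [← e'']
    simp
  have he : comp0 c ≫ h 0 = -γ - e ≫ I.d 0 1 := by
    have hcomm := H.comm 0
    rw [dNext_eq _ (show (ComplexShape.up ℤ).Rel 0 1 from rfl),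
      prevD_eq _ (show (ComplexShape.up ℤ).Rel (-1) 0 from rfl)] at hcomm
    have hd : ((CochainComplex.singleFunctor (FilF A) 0).obj S.X₃).d 0 1 = 0 :=
      (HomologicalComplex.isZero_single_obj_X (ComplexShape.up ℤ) 0 S.X₃ 1 (by omega)).eq_of_tgt _ _
    rw [hd, zero_comp, zero_add] at hcomm
    have h' := congrArg ((X0 S.X₃).inv ≫ ·) hcomm
    simp only [HomologicalComplex.comp_f, HomologicalComplex.neg_f_apply, Preadditive.comp_add,
      Preadditive.comp_neg, Γ, mkHomFromSingle_f0, Iso.inv_hom_id_assoc] at h'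
    have key : ∀ (i : ℤ) (hi : i = 0), ((1 : ℤ).negOnePow • I.d i 1 : I.X i ⟶ I.X 1) =
        eqToHom (congrArg I.X hi) ≫ (-I.d 0 1) := by
      rintro i rfl
      simp
    have h'' : comp0 c ≫ h 0 = e ≫ (-I.d 0 1) + -γ := by
      refine (Category.assoc _ _ _).trans (h'.trans (congrArg₂ (· + ·) ?_
        (by first
          | rfl
          | exact (congrArg ((X0 S.X₃).inv ≫ ·) (congrArg Neg.neg (mkHomFromSingle_f0 γ' _))).trans
              ((Preadditive.comp_neg _ _).trans (congrArg Neg.neg (Iso.inv_hom_id_assoc _ _))))))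
      refine Eq.trans ?_ (Category.assoc _ _ _).symm
      refine congrArg ((X0 S.X₃).inv ≫ ·) ?_
      refine Eq.trans ?_ (Category.assoc _ _ _).symm
      exact congrArg (H.hom 0 (-1) ≫ ·) (key ((-1 : ℤ) + 1) (by omega))
    rw [h'', Preadditive.comp_neg]
    abel
  let M : CochainComplex (FilF A) ℤ :=
    CochainComplex.of (fun n => I.X n ⊞ J.X n)
      (fun n => biprod.lift (biprod.fst ≫ I.d n (n + 1) + biprod.snd ≫ h n) (biprod.snd ≫ J.d n (n + 1)))
      (fun n => by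
        apply biprod.hom_ext
        · simp only [Category.assoc, biprod.lift_fst, Preadditive.comp_add, biprod.lift_fst_assoc,
            biprod.lift_snd_assoc, Preadditive.add_comp, I.d_comp_d, comp_zero, zero_add, zero_comp]
          rw [← Preadditive.comp_add, hh, comp_zero]
        · simp)
  let α : I ⟶ M :=
    { f := fun n => biprod.inl
      comm' := by
        rintro i j (hij : i + 1 = j)
        subst hij
        dsimp only [M]
        rw [CochainComplex.of_d]
        apply biprod.hom_ext <;> simp }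
  let β : M ⟶ J :=
    { f := fun n => biprod.snd
      comm' := by
        rintro i j (hij : i + 1 = j)
        subst hij
        dsimp only [M]
        rw [CochainComplex.of_d]
        simp }
  let b₀ : S.X₂ ⟶ M.X 0 := biprod.lift (β₀ + S.g ≫ e) (S.g ≫ comp0 c)
  have hb₀ : b₀ ≫ M.d 0 (0 + 1) = 0 := by
    dsimp only [M, b₀]
    rw [CochainComplex.of_d]
    apply biprod.hom_ext
    · simp only [Category.assoc, biprod.lift_fst, Preadditive.comp_add, biprod.lift_fst_assoc,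
        biprod.lift_snd_assoc, Preadditive.add_comp, zero_comp]
      have key2 : β₀ ≫ I.d 0 1 + S.g ≫ e ≫ I.d 0 1 + (S.g ≫ comp0 c ≫ h 0 : S.X₂ ⟶ I.X 1) = 0 := by
        rw [← hγ]
        refine (congrArg (fun t : S.X₃ ⟶ I.X 1 => S.g ≫ γ + S.g ≫ e ≫ I.d 0 1 + S.g ≫ t) he).trans ?_
        simp
      exact key2
    · simp only [Category.assoc, biprod.lift_snd, biprod.lift_snd_assoc, zero_comp]
      exact (congrArg (S.g ≫ ·) (comp0_d c)).trans comp_zero
  let b : (CochainComplex.singleFunctor (FilF A) 0).obj S.X₂ ⟶ M :=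
    HomologicalComplex.mkHomFromSingle b₀ (by
      rintro k (rfl : (0 : ℤ) + 1 = k)
      exact hb₀)
  have hb : comp0 b = b₀ := by
    simp only [comp0, b, mkHomFromSingle_f0, Iso.inv_hom_id_assoc]
  have hmap : ∀ {X Y : FilF A} (u : X ⟶ Y) (K : CochainComplex (FilF A) ℤ)
      (w : (CochainComplex.singleFunctor (FilF A) 0).obj Y ⟶ K),
      comp0 ((CochainComplex.singleFunctor (FilF A) 0).map u ≫ w) = u ≫ comp0 w := by
    intro X Y u K w
    simp [comp0, single_map_f0]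
  refine ⟨M, α, β, b, fun n => ⟨biprod.fst, biprod.inr, biprod.inl_fst, biprod.inr_snd, biprod.inl_snd,
    biprod.total⟩, single_hom_ext ?_, single_hom_ext ?_⟩
  · rw [hmap, hb]
    change comp0 (a ≫ α) = S.f ≫ biprod.lift (β₀ + S.g ≫ e) (S.g ≫ comp0 c)
    have e1 : comp0 (a ≫ α) = comp0 a ≫ biprod.inl := (Category.assoc _ _ _).symm
    rw [e1]
    apply biprod.hom_ext <;> simp [hβ₀]
  · rw [hmap]
    have e1 : comp0 (b ≫ β) = comp0 b ≫ biprod.snd := (Category.assoc _ _ _).symm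
    rw [e1, hb]
    exact biprod.lift_snd _ _

end FilDLib
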