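import Groth.Agent.FilDLib.Cplx
import Groth.Agent.FilDLib.Hull
import Mathlib.Algebra.Homology.Refinements

/-!
# Truncations of complexes of finite filtered objects
-/

set_option autoImplicit false

universe v u

open CategoryTheory CategoryTheory.Limits Opposite FilD

namespace FilDLib

variable {A : Type u} [Category.{v} A] [Abelian A]

/-- The first map of a short complex exact on graded pieces is strict. -/
lemma lift_first {X Y Z : FilF A} {f : X ⟶ Y} {g : Y ⟶ Z} (w : f ≫ g = 0)
    (h : ∀ p, ((ShortComplex.mk f g w).map (grF A p)).Exact) : Lift f := by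
  intro p T y z hy
  have h0 : z ≫ ap g (p + 1) = 0 := by
    rw [← cancel_mono (tr Z p), Category.assoc, ← tr_ap, ← reassoc_of% hy, ← ap_comp, w]
    simp
  exact (of_gr_exact f g w h).1 (p + 1) T z h0

lemma lift_of_retr {X Y : FilF A} (e : X ⟶ Y) (r : Y ⟶ X) (h : e ≫ r = 𝟙 X) : Lift e := by
  intro p T y z hy
  have hy' : y = (z ≫ ap r (p + 1)) ≫ tr X p := by
    calc y = y ≫ ap (e ≫ r) p := by rw [h, ap_id, Category.comp_id]
      _ = (z ≫ ap r (p + 1)) ≫ tr X p := by rw [ap_comp, reassoc_of% hy, tr_ap, Category.assoc]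
  refine ⟨T, 𝟙 T, inferInstance, z ≫ ap r (p + 1), ?_⟩
  rw [Category.id_comp, ← cancel_mono (tr Y p), ← hy, hy']
  simp only [Category.assoc, tr_ap]

lemma lift_zero (X Y : FilF A) : Lift (0 : X ⟶ Y) := fun p T y z hy =>
  ⟨T, 𝟙 T, inferInstance, 0, by
    rw [ap_zero, comp_zero] at hy
    rw [zero_comp, Category.id_comp, ← cancel_mono (tr Y p), ← hy, zero_comp]⟩

lemma lift_biprod_lift {X Y Z : FilF A} {f : X ⟶ Y} (hf : Lift f) :
    Lift (biprod.lift f (0 : X ⟶ Z)) := by
  intro p T y z hy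
  obtain ⟨T', π, _, y', hy'⟩ := hf p T y (z ≫ ap biprod.fst (p + 1)) (by
    have := congrArg (· ≫ ap (biprod.fst : Y ⊞ Z ⟶ Y) p) hy
    simp only [Category.assoc, ← ap_comp, biprod.lift_fst, tr_ap] at this
    rw [this, Category.assoc])
  refine ⟨T', π, inferInstance, y', ?_⟩
  have h2 : z ≫ ap (biprod.snd : Y ⊞ Z ⟶ Z) (p + 1) = 0 := by
    have := congrArg (· ≫ ap (biprod.snd : Y ⊞ Z ⟶ Z) p) hy
    simp only [Category.assoc, ← ap_comp, biprod.lift_snd, ap_zero, comp_zero, tr_ap] at this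
    rw [← cancel_mono (tr Z p), Category.assoc, ← this, zero_comp]
  have key : ∀ (w : T' ⟶ lv (Y ⊞ Z) (p + 1)), w ≫ ap (biprod.fst : Y ⊞ Z ⟶ Y) (p + 1) ≫ ap biprod.inl (p + 1) +
      w ≫ ap (biprod.snd : Y ⊞ Z ⟶ Z) (p + 1) ≫ ap biprod.inr (p + 1) = w := fun w => by
    rw [← Preadditive.comp_add, ← ap_comp, ← ap_comp, ← ap_add, biprod.total, ap_id, Category.comp_id]
  rw [← key (π ≫ z), ← key (y' ≫ ap (biprod.lift f 0) (p + 1))]
  simp only [Category.assoc]
  rw [reassoc_of% hy', reassoc_of% h2, ← ap_comp_assoc (biprod.lift f 0) biprod.fst,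
    ← ap_comp_assoc (biprod.lift f 0) biprod.snd, biprod.lift_fst, biprod.lift_snd]
  simp

lemma lift_biprod_desc {X Y Z : FilF A} {f : X ⟶ Y} (hf : Lift f) :
    Lift (biprod.desc f (0 : Z ⟶ Y)) := by
  intro p T y z hy
  obtain ⟨T', π, _, y', hy'⟩ := hf p T (y ≫ ap biprod.fst p) z (by
    rw [Category.assoc, ← ap_comp, ← hy, biprod.desc_eq, comp_zero, add_zero])
  refine ⟨T', π, inferInstance, y' ≫ ap biprod.inl (p + 1), ?_⟩
  rw [Category.assoc, ← ap_comp, biprod.inl_desc, hy']

lemma gr_biprod_ext (p : ℤ) {X Y : FilF A} {T : A} (z : T ⟶ (grF A p).obj (X ⊞ Y))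
    (h₁ : z ≫ (grF A p).map biprod.fst = 0) (h₂ : z ≫ (grF A p).map biprod.snd = 0) : z = 0 := by
  rw [← Category.comp_id z, ← (grF A p).map_id, ← biprod.total, Functor.map_add, Functor.map_comp,
    Functor.map_comp, Preadditive.comp_add, ← Category.assoc, ← Category.assoc, h₁, h₂]
  simp

lemma epi_gr_map {X Y : FilF A} (g : X ⟶ Y) [∀ p, Epi (ap g p)] (p : ℤ) : Epi ((grF A p).map g) := by
  have : Epi (grπ X p ≫ (grF A p).map g) := by
    rw [grπ_map]
    exact epi_comp _ _
  exact epi_of_epi (grπ X p) _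

lemma mono_gr_map {X Y : FilF A} (g : X ⟶ Y) [∀ p, Mono (ap g p)] (hg : Lift g) (p : ℤ) :
    Mono ((grF A p).map g) :=
  ((gr_exact (0 : X ⟶ X) g zero_comp (lvExact_of_mono _ g) hg p).mono_g ((grF A p).map_zero _ _))

section LE

variable (K : CochainComplex (FilF A) ℤ) (b : ℤ)

/-- The truncation conditions. -/
noncomputable def eLE (n : ℤ) : K.X n ⟶ K.X (n + 1) ⊞ K.X n :=
  biprod.lift (if b ≤ n then K.d n (n + 1) else 0) (if b < n then 𝟙 _ else 0)

variable {K b}

lemma eLE_fst (n : ℤ) : eLE K b n ≫ biprod.fst = if b ≤ n then K.d n (n + 1) else 0 := biprod.lift_fst _ _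

lemma eLE_snd (n : ℤ) : eLE K b n ≫ biprod.snd = if b < n then 𝟙 _ else 0 := biprod.lift_snd _ _

lemma kerι_d_eq_zero {n : ℤ} (hn : b ≤ n) : kerι (eLE K b n) ≫ K.d n (n + 1) = 0 := by
  have h := eLE_fst (K := K) (b := b) n
  rw [if_pos hn] at h
  rw [← h, kerι_comp_assoc, zero_comp]

lemma kerι_eq_zero {n : ℤ} (hn : b < n) : kerι (eLE K b n) = 0 := by
  have h := eLE_snd (K := K) (b := b) n
  rw [if_pos hn] at h
  rw [← Category.comp_id (kerι (eLE K b n)), ← h, kerι_comp_assoc, zero_comp]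

variable (K b)

lemma kerι_d_comp (i j : ℤ) : kerι (eLE K b i) ≫ K.d i j ≫ eLE K b j = 0 := by
  by_cases h : i + 1 = j
  · subst h
    apply biprod.hom_ext
    · rw [Category.assoc, Category.assoc, eLE_fst, zero_comp]
      split_ifs <;> simp
    · rw [Category.assoc, Category.assoc, eLE_snd, zero_comp]
      split_ifs with h
      · rw [Category.comp_id, kerι_d_eq_zero (by omega)]
      · simp
  · rw [K.shape i j h, zero_comp, comp_zero]

/-- Lifting into a kernel. -/
noncomputable def kerLift {X Y Z : FilF A} (φ : X ⟶ Y) (k : Z ⟶ X) (hk : k ≫ φ = 0) : Z ⟶ ker φ :=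
  ObjectProperty.homMk (kernel.lift φ.hom k.hom (congrArg InducedCategory.Hom.hom hk))

@[reassoc (attr := simp)]
lemma kerLift_ι {X Y Z : FilF A} (φ : X ⟶ Y) (k : Z ⟶ X) (hk : k ≫ φ = 0) :
    kerLift φ k hk ≫ kerι φ = k :=
  ObjectProperty.hom_ext _ (kernel.lift_ι _ _ _)

instance mono_kerι {X Y : FilF A} (φ : X ⟶ Y) : Mono (kerι φ) :=
  ⟨fun g h e => ObjectProperty.hom_ext _
    ((cancel_mono (kernel.ι φ.hom)).mp (congrArg InducedCategory.Hom.hom e))⟩

/-- The truncated complex. -/
noncomputable def truncLE : CochainComplex (FilF A) ℤ where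
  X n := ker (eLE K b n)
  d i j := kerLift _ (kerι (eLE K b i) ≫ K.d i j) (by rw [Category.assoc, kerι_d_comp])
  shape i j h := by
    rw [← cancel_mono (kerι (eLE K b j)), kerLift_ι, K.shape i j h, comp_zero, zero_comp]
  d_comp_d' i j k _ _ := by
    rw [← cancel_mono (kerι (eLE K b k)), Category.assoc, kerLift_ι, kerLift_ι_assoc, Category.assoc,
      K.d_comp_d, comp_zero, zero_comp]

/-- The inclusion of the truncation. -/
noncomputable def truncLEι : truncLE K b ⟶ K where
  f n := kerι (eLE K b n)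
  comm' i j _ :=
    (kerLift_ι (eLE K b j) (kerι (eLE K b i) ≫ K.d i j) (by rw [Category.assoc, kerι_d_comp])).symm

lemma gr_truncLE_d (p i j : ℤ) : (grF A p).map ((truncLE K b).d i j) ≫ (grF A p).map (kerι (eLE K b j)) =
    (grF A p).map (kerι (eLE K b i)) ≫ (grF A p).map (K.d i j) :=
  (((grF A p).map_comp ((truncLE K b).d i j) (kerι (eLE K b j))).symm.trans
    (congrArg (grF A p).map (kerLift_ι (eLE K b j) (kerι (eLE K b i) ≫ K.d i j)
      (by rw [Category.assoc, kerι_d_comp])))).trans ((grF A p).map_comp _ _)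

instance : (truncLE K b).IsStrictlyLE b := by
  rw [CochainComplex.isStrictlyLE_iff]
  intro n hn
  change IsZero (ker (eLE K b n))
  rw [IsZero.iff_id_eq_zero, ← cancel_mono (kerι (eLE K b n)), Category.id_comp, zero_comp,
    kerι_eq_zero hn]

variable {K b}

lemma lift_eLE (hK : ∀ (p n : ℤ), b < n → ((grCx p).obj K).ExactAt n) (n : ℤ) : Lift (eLE K b n) := by
  rcases lt_trichotomy n b with hn | rfl | hn
  · have : eLE K b n = 0 := by
      apply biprod.hom_ext <;> simp [eLE, show ¬ b ≤ n by omega, show ¬ b < n by omega]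
    rw [this]
    exact lift_zero _ _
  · rw [eLE, if_pos le_rfl, if_neg (lt_irrefl n)]
    exact lift_biprod_lift (lift_first _ fun p =>
      gr_exact_of_exactAt K rfl rfl (fun p => hK p (n + 1) (by omega)) p)
  · exact lift_of_retr _ biprod.snd (by rw [eLE, biprod.lift_snd, if_pos hn])

lemma lift_kerι {X Y : FilF A} (φ : X ⟶ Y) : Lift (kerι φ) := by
  intro p T y z hy
  refine kerι_lvExact φ (p + 1) T z ?_
  rw [← cancel_mono (tr Y p), Category.assoc, ← tr_ap, ← reassoc_of% hy, ← ap_comp, kerι_comp]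
  simp

theorem truncLEι_quasiIso (hK : ∀ (p n : ℤ), b < n → ((grCx p).obj K).ExactAt n) :
    IsFilteredQuasiIso (truncLEι K b) := by
  intro p
  have hm : ∀ n, Mono ((grF A p).map (kerι (eLE K b n))) := fun n => mono_gr_map _ (lift_kerι _) p
  -- cycles in degrees at most `b` come from the truncation
  have key : ∀ (n : ℤ), n ≤ b → ∀ {T : A} (z : T ⟶ (grF A p).obj (K.X n)),
      (n = b → z ≫ (grF A p).map (K.d n (n + 1)) = 0) →
      ∃ (T' : A) (π : T' ⟶ T) (_ : Epi π) (x : T' ⟶ (grF A p).obj (ker (eLE K b n))),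
        π ≫ z = x ≫ (grF A p).map (kerι (eLE K b n)) := by
    intro n hn T z hz
    refine (gr_exact _ _ (kerι_comp (eLE K b n)) (kerι_lvExact _) (lift_eLE hK n) p).exact_up_to_refinements z ?_
    change z ≫ (grF A p).map (eLE K b n) = 0
    apply gr_biprod_ext
    · rw [Category.assoc, ← Functor.map_comp, eLE, biprod.lift_fst]
      split_ifs with h
      · exact hz (le_antisymm hn h)
      · simp
    · rw [Category.assoc, ← Functor.map_comp, eLE, biprod.lift_snd, if_neg (by omega), Functor.map_zero,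
        comp_zero]
  refine ⟨fun n => ?_⟩
  rw [quasiIsoAt_iff_isIso_homologyMap]
  have : Mono (HomologicalComplex.homologyMap ((grCx p).map (truncLEι K b)) n) := by
    rw [HomologicalComplex.mono_homologyMap_iff_up_to_refinements _ (n - 1) n (n + 1) (by simp) (by simp)]
    intro T x hx y hy
    change T ⟶ (grF A p).obj (ker (eLE K b n)) at x
    change T ⟶ (grF A p).obj (K.X (n - 1)) at y
    have hy' : x ≫ (grF A p).map (kerι (eLE K b n)) = y ≫ (grF A p).map (K.d (n - 1) n) := hy
    rcases lt_or_ge b n with hn | hn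
    · refine ⟨T, 𝟙 T, inferInstance, 0, ?_⟩
      have : x = 0 := by rw [← cancel_mono ((grF A p).map (kerι (eLE K b n))), kerι_eq_zero hn]; simp
      rw [this]
      exact comp_zero.trans zero_comp.symm
    obtain ⟨T', π, _, w, hw⟩ := key (n - 1) (by omega) y (fun h => absurd h (by omega))
    refine ⟨T', π, inferInstance, w, (cancel_mono ((grF A p).map (kerι (eLE K b n)))).mp ?_⟩
    change (π ≫ x) ≫ (grF A p).map (kerι (eLE K b n)) =
      (w ≫ (grF A p).map ((truncLE K b).d (n - 1) n)) ≫ (grF A p).map (kerι (eLE K b n))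
    rw [Category.assoc, hy', reassoc_of% hw]
    exact ((Category.assoc _ _ _).trans (congrArg (w ≫ ·) (gr_truncLE_d K b p (n - 1) n))).symm
  have : Epi (HomologicalComplex.homologyMap ((grCx p).map (truncLEι K b)) n) := by
    rw [HomologicalComplex.epi_homologyMap_iff_up_to_refinements _ (n - 1) n (n + 1) (by simp) (by simp)]
    intro T z hz
    change T ⟶ (grF A p).obj (K.X n) at z
    rcases lt_or_ge b n with hn | hn
    · obtain ⟨T', π, _, y, hy⟩ :=
        (gr_exact_of_exactAt K (sub_add_cancel n 1) rfl (fun p => hK p n hn) p).exact_up_to_refinements z hz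
      refine ⟨T', π, inferInstance, 0, zero_comp, y, ?_⟩
      rw [zero_comp, zero_add]
      exact hy
    obtain ⟨T', π, _, x, hx⟩ := key n hn z (fun h => hz)
    change T' ⟶ (grF A p).obj (ker (eLE K b n)) at x
    refine ⟨T', π, inferInstance, x, ?_, 0, ?_⟩
    · have := hm (n + 1)
      refine (cancel_mono ((grF A p).map (kerι (eLE K b (n + 1))))).mp ?_
      change (x ≫ (grF A p).map ((truncLE K b).d n (n + 1))) ≫ (grF A p).map (kerι (eLE K b (n + 1))) = 0 ≫ _
      refine ((Category.assoc _ _ _).trans (congrArg (x ≫ ·) (gr_truncLE_d K b p n (n + 1)))).trans ?_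
      have hz' : z ≫ (grF A p).map (K.d n (n + 1)) = 0 := hz
      rw [← Category.assoc, ← hx, Category.assoc, hz', comp_zero, zero_comp]
    · rw [zero_comp, add_zero]
      exact hx
  exact isIso_of_mono_of_epi _

end LE

section GE

variable (K : CochainComplex (FilF A) ℤ) (a : ℤ)

/-- The truncation relations. -/
noncomputable def eGE (n : ℤ) : K.X (n - 1) ⊞ K.X n ⟶ K.X n :=
  biprod.desc (if n ≤ a then K.d (n - 1) n else 0) (if n < a then 𝟙 _ else 0)

variable {K a}

lemma lift_eGE (hK : ∀ (p n : ℤ), n < a → ((grCx p).obj K).ExactAt n) (n : ℤ) : Lift (eGE K a n) := by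
  rcases lt_trichotomy n a with hn | rfl | hn
  · have : ∀ p, Epi (ap (eGE K a n) p) := fun p => by
      have : IsSplitEpi (ap (eGE K a n) p) := IsSplitEpi.mk' ⟨ap biprod.inr p, by
        rw [← ap_comp, eGE, biprod.inr_desc, if_pos hn, ap_id]⟩
      infer_instance
    exact lift_of_epi _
  · rw [eGE, if_pos le_rfl, if_neg (lt_irrefl n)]
    exact lift_biprod_desc (of_gr_exact _ _ _ fun p =>
      gr_exact_of_exactAt K (sub_add_cancel (n - 1) 1) (sub_add_cancel n 1) (fun p => hK p (n - 1) (by omega)) p).2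
  · have : eGE K a n = 0 := by
      apply biprod.hom_ext' <;> simp [eGE, show ¬ n ≤ a by omega, show ¬ n < a by omega]
    rw [this]
    exact lift_zero _ _

variable (hK : ∀ (p n : ℤ), n < a → ((grCx p).obj K).ExactAt n)

lemma eGE_inl (n : ℤ) : biprod.inl ≫ eGE K a n = if n ≤ a then K.d (n - 1) n else 0 := biprod.inl_desc _ _

lemma eGE_inr (n : ℤ) : biprod.inr ≫ eGE K a n = if n < a then 𝟙 _ else 0 := biprod.inr_desc _ _

include hK in
lemma d_cokerπ_eq_zero {n : ℤ} (hn : n ≤ a) :
    K.d (n - 1) n ≫ cokerπ (eGE K a n) (lift_eGE hK n) = 0 := by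
  have h := eGE_inl (K := K) (a := a) n
  rw [if_pos hn] at h
  rw [← h, Category.assoc, comp_cokerπ, comp_zero]

include hK in
lemma cokerπ_eq_zero {n : ℤ} (hn : n < a) : cokerπ (eGE K a n) (lift_eGE hK n) = 0 := by
  have h := eGE_inr (K := K) (a := a) n
  rw [if_pos hn] at h
  rw [← Category.id_comp (cokerπ (eGE K a n) (lift_eGE hK n)), ← h, Category.assoc, comp_cokerπ, comp_zero]

include hK in
lemma eGE_comp_d (i j : ℤ) : eGE K a i ≫ K.d i j ≫ cokerπ (eGE K a j) (lift_eGE hK j) = 0 := by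
  by_cases h : i + 1 = j
  · apply biprod.hom_ext'
    · rw [← Category.assoc, eGE_inl, comp_zero]
      split_ifs <;> simp
    · rw [← Category.assoc, eGE_inr, comp_zero]
      split_ifs with h'
      · have key : ∀ m k, k - 1 = m → k ≤ a → K.d m k ≫ cokerπ (eGE K a k) (lift_eGE hK k) = 0 := by
          rintro m k rfl hk
          exact d_cokerπ_eq_zero hK hk
        rw [Category.id_comp, key i j (by omega) (by omega)]
      · simp
  · rw [K.shape i j h, zero_comp, comp_zero]

/-- The truncated complex. -/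
noncomputable def truncGE : CochainComplex (FilF A) ℤ where
  X n := coker (eGE K a n) (lift_eGE hK n)
  d i j := cokerDesc _ _ (K.d i j ≫ cokerπ (eGE K a j) (lift_eGE hK j)) (eGE_comp_d hK i j)
  shape i j h := by
    rw [← cancel_epi (cokerπ (eGE K a i) (lift_eGE hK i)), cokerπ_desc, K.shape i j h, zero_comp, comp_zero]
  d_comp_d' i j k _ _ := by
    rw [← cancel_epi (cokerπ (eGE K a i) (lift_eGE hK i)), cokerπ_desc_assoc, Category.assoc, cokerπ_desc,
      ← Category.assoc, K.d_comp_d, zero_comp, comp_zero]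

/-- The projection to the truncation. -/
noncomputable def truncGEπ : K ⟶ truncGE hK where
  f n := cokerπ (eGE K a n) (lift_eGE hK n)
  comm' i j _ := cokerπ_desc (eGE K a i) (lift_eGE hK i) (K.d i j ≫ cokerπ (eGE K a j) (lift_eGE hK j))
    (eGE_comp_d hK i j)

lemma gr_truncGE_d (p i j : ℤ) :
    (grF A p).map (cokerπ (eGE K a i) (lift_eGE hK i)) ≫ (grF A p).map ((truncGE hK).d i j) =
      (grF A p).map (K.d i j) ≫ (grF A p).map (cokerπ (eGE K a j) (lift_eGE hK j)) :=
  (((grF A p).map_comp (cokerπ (eGE K a i) (lift_eGE hK i)) ((truncGE hK).d i j)).symm.trans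
    (congrArg (grF A p).map (cokerπ_desc (eGE K a i) (lift_eGE hK i)
      (K.d i j ≫ cokerπ (eGE K a j) (lift_eGE hK j)) (eGE_comp_d hK i j)))).trans ((grF A p).map_comp _ _)

instance : (truncGE hK).IsStrictlyGE a := by
  rw [CochainComplex.isStrictlyGE_iff]
  intro n hn
  change IsZero (coker (eGE K a n) (lift_eGE hK n))
  rw [IsZero.iff_id_eq_zero, ← cancel_epi (cokerπ (eGE K a n) (lift_eGE hK n)), Category.comp_id, comp_zero,
    cokerπ_eq_zero hK hn]

theorem truncGEπ_quasiIso : IsFilteredQuasiIso (truncGEπ hK) := by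
  intro p
  have he : ∀ n, Epi ((grF A p).map (cokerπ (eGE K a n) (lift_eGE hK n))) := fun n => epi_gr_map _ p
  refine ⟨fun n => ?_⟩
  rw [quasiIsoAt_iff_isIso_homologyMap]
  have : Mono (HomologicalComplex.homologyMap ((grCx p).map (truncGEπ hK)) n) := by
    rw [HomologicalComplex.mono_homologyMap_iff_up_to_refinements _ (n - 1) n (n + 1) (by simp) (by simp)]
    intro T z hz y hy
    change T ⟶ (grF A p).obj (K.X n) at z
    change T ⟶ (grF A p).obj (coker (eGE K a (n - 1)) (lift_eGE hK (n - 1))) at y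
    have hy' : z ≫ (grF A p).map (cokerπ (eGE K a n) (lift_eGE hK n)) =
        y ≫ (grF A p).map ((truncGE hK).d (n - 1) n) := hy
    rcases lt_or_ge n a with hn | hn
    · exact (gr_exact_of_exactAt K (sub_add_cancel n 1) rfl (fun p => hK p n hn) p).exact_up_to_refinements z hz
    have := he (n - 1)
    obtain ⟨T₁, π₁, _, k, hk⟩ :=
      surjective_up_to_refinements_of_epi ((grF A p).map (cokerπ (eGE K a (n - 1)) (lift_eGE hK (n - 1)))) y
    obtain ⟨T₂, π₂, _, w, hw⟩ := (gr_exact _ _ (comp_cokerπ (eGE K a n) (lift_eGE hK n)) (cokerπ_lvExact _ _)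
      (lift_of_epi _) p).exact_up_to_refinements (π₁ ≫ z - k ≫ (grF A p).map (K.d (n - 1) n)) (by
        change (π₁ ≫ z - k ≫ (grF A p).map (K.d (n - 1) n)) ≫
          (grF A p).map (cokerπ (eGE K a n) (lift_eGE hK n)) = 0
        rw [Preadditive.sub_comp, Category.assoc, Category.assoc, hy', sub_eq_zero]
        exact (Category.assoc _ _ _).symm.trans ((congrArg (· ≫ (grF A p).map ((truncGE hK).d (n - 1) n)) hk).trans
          ((Category.assoc _ _ _).trans (congrArg (k ≫ ·) (gr_truncGE_d hK p (n - 1) n)))))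
    change T₂ ⟶ (grF A p).obj (K.X (n - 1) ⊞ K.X n) at w
    have hw' : π₂ ≫ (π₁ ≫ z - k ≫ (grF A p).map (K.d (n - 1) n)) = w ≫ (grF A p).map (eGE K a n) := hw
    have he0 : eGE K a n = (if n ≤ a then biprod.fst else 0) ≫ K.d (n - 1) n := by
      apply biprod.hom_ext'
      · rw [eGE, biprod.inl_desc]
        split_ifs <;> simp
      · rw [eGE, biprod.inr_desc, if_neg (by omega)]
        split_ifs <;> simp
    refine ⟨T₂, π₂ ≫ π₁, inferInstance, π₂ ≫ k + w ≫ (grF A p).map (if n ≤ a then biprod.fst else 0), ?_⟩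
    change (π₂ ≫ π₁) ≫ z = _ ≫ (grF A p).map (K.d (n - 1) n)
    rw [Preadditive.add_comp, Category.assoc, Category.assoc, Category.assoc, ← Functor.map_comp, ← he0, ← hw',
      Preadditive.comp_sub]
    abel
  have : Epi (HomologicalComplex.homologyMap ((grCx p).map (truncGEπ hK)) n) := by
    rw [HomologicalComplex.epi_homologyMap_iff_up_to_refinements _ (n - 1) n (n + 1) (by simp) (by simp)]
    intro T z hz
    change T ⟶ (grF A p).obj (coker (eGE K a n) (lift_eGE hK n)) at z
    rcases lt_or_ge n a with hn | hn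
    · refine ⟨T, 𝟙 T, inferInstance, 0, zero_comp, 0, ?_⟩
      have h0 : z = 0 := by
        have := he n
        obtain ⟨T', π, _, k, hk⟩ :=
          surjective_up_to_refinements_of_epi ((grF A p).map (cokerπ (eGE K a n) (lift_eGE hK n))) z
        rw [← cancel_epi π, hk, cokerπ_eq_zero hK hn]
        simp
      rw [h0, zero_comp, zero_comp, add_zero]
      exact comp_zero
    have := he n
    obtain ⟨T₁, π₁, _, k, hk⟩ :=
      surjective_up_to_refinements_of_epi ((grF A p).map (cokerπ (eGE K a n) (lift_eGE hK n))) z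
    obtain ⟨T₂, π₂, _, w, hw⟩ := (gr_exact _ _ (comp_cokerπ (eGE K a (n + 1)) (lift_eGE hK (n + 1)))
      (cokerπ_lvExact _ _) (lift_of_epi _) p).exact_up_to_refinements (k ≫ (grF A p).map (K.d n (n + 1))) (by
        change (k ≫ (grF A p).map (K.d n (n + 1))) ≫ (grF A p).map (cokerπ _ (lift_eGE hK (n + 1))) = 0
        have hz' : z ≫ (grF A p).map ((truncGE hK).d n (n + 1)) = 0 := hz
        rw [Category.assoc, ← gr_truncGE_d hK p n (n + 1)]
        refine (Category.assoc _ _ _).symm.trans ?_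
        rw [← hk]
        exact (Category.assoc _ _ _).trans ((congrArg (π₁ ≫ ·) hz').trans comp_zero))
    have he1 : eGE K a (n + 1) = 0 := by
      apply biprod.hom_ext' <;> simp [eGE, show ¬ n + 1 ≤ a by omega, show ¬ n + 1 < a by omega]
    have hw' : π₂ ≫ k ≫ (grF A p).map (K.d n (n + 1)) = w ≫ (grF A p).map (eGE K a (n + 1)) := hw
    have hw'' : π₂ ≫ k ≫ (grF A p).map (K.d n (n + 1)) = 0 :=
      hw'.trans ((congrArg (fun t => w ≫ (grF A p).map t) he1).trans
        ((congrArg (w ≫ ·) ((grF A p).map_zero _ _)).trans comp_zero))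
    refine ⟨T₂, π₂ ≫ π₁, inferInstance, π₂ ≫ k, ?_, 0, ?_⟩
    · exact (Category.assoc _ _ _).trans hw''
    · rw [zero_comp, add_zero]
      change (π₂ ≫ π₁) ≫ z = (π₂ ≫ k) ≫ (grF A p).map (cokerπ (eGE K a n) (lift_eGE hK n))
      rw [Category.assoc, hk, Category.assoc]
  exact isIso_of_mono_of_epi _

end GE

end FilDLib
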