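import Groth.Agent.FilDLib.Cplx
import Groth.Agent.FilDLib.Hull
import Groth.Agent.FilDLib.Trunc
import Mathlib.Algebra.Homology.HomologicalComplexBiprod
import Mathlib.Algebra.Homology.Homotopy

/-!
# Filtered injective resolutions
-/

set_option autoImplicit false

universe v u

open CategoryTheory CategoryTheory.Limits Opposite FilD ZeroObject

namespace FilDLib

variable {A : Type u} [Category.{v} A] [Abelian A]

lemma mono_of_comp_right {X Y Z : FilF A} {m : X ⟶ Y} (r : Y ⟶ Z) {v : X ⟶ Z} (h : m ≫ r = v)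
    [hv : ∀ p, Mono (ap v p)] (p : ℤ) : Mono (ap m p) := by
  have := hv p
  rw [← h, ap_comp] at this
  exact mono_of_mono (ap m p) (ap r p)

lemma lift_of_comp_right {X Y Z : FilF A} {m : X ⟶ Y} (r : Y ⟶ Z) {v : X ⟶ Z} (h : m ≫ r = v)
    [hv : ∀ p, Mono (ap v p)] (hl : Lift v) : Lift m := by
  intro p T y z hy
  have e : y ≫ ap v p = (z ≫ ap r (p + 1)) ≫ tr Z p := by
    rw [← h, ap_comp, reassoc_of% hy, tr_ap, Category.assoc]
  obtain ⟨T', π, _, y', hy'⟩ := hl p T y _ e
  refine ⟨T', π, inferInstance, y', ?_⟩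
  have hy'' : π ≫ y = y' ≫ tr X p := by
    rw [← cancel_mono (ap v p), Category.assoc, e, Category.assoc, Category.assoc, reassoc_of% hy', tr_ap]
  rw [← cancel_mono (tr Y p), Category.assoc, ← hy, reassoc_of% hy'', tr_ap, Category.assoc]

lemma isFilteredInjective_of_isZero {I : FilF A} (h : IsZero I) : IsFilteredInjective I := fun p =>
  ⟨fun g f _ => ⟨0, ((grF A p).map_isZero h).eq_of_tgt _ _⟩⟩

lemma isZero_lv {X : FilF A} (h : IsZero X) (p : ℤ) : IsZero (lv X p) :=
  (IsZero.iff_id_eq_zero _).mpr (by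
    rw [← ap_id, h.eq_of_src (𝟙 X) 0, ap_zero])

lemma exists_hull' [EnoughInjectives A] (X : FilF A) :
    ∃ (I : FilF A) (u : X ⟶ I), IsFilteredInjective I ∧ (∀ p, Mono (ap u p)) ∧ Lift u ∧
      (IsZero X → IsZero I) := by
  by_cases h : IsZero X
  · exact ⟨X, 𝟙 X, isFilteredInjective_of_isZero h, fun p => by rw [ap_id]; infer_instance,
      lift_of_retr _ (𝟙 X) (Category.comp_id _), fun _ => h⟩
  · obtain ⟨I, u, h₁, h₂, h₃⟩ := exists_hull X
    exact ⟨I, u, h₁, h₂, h₃, fun h' => absurd h' h⟩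

lemma injective_gr_of_split {F G X : FilF A} (p : ℤ) [Injective ((grF A p).obj F)] [Injective ((grF A p).obj G)]
    (l : X ⟶ F) (r : X ⟶ G) (i : F ⟶ X) (j : G ⟶ X) (h : l ≫ i + r ≫ j = 𝟙 X) :
    Injective ((grF A p).obj X) := by
  refine ⟨fun {W V} g f _ => ⟨Injective.factorThru (g ≫ (grF A p).map l) f ≫ (grF A p).map i +
    Injective.factorThru (g ≫ (grF A p).map r) f ≫ (grF A p).map j, ?_⟩⟩
  rw [Preadditive.comp_add, Injective.comp_factorThru_assoc, Injective.comp_factorThru_assoc,
    Category.assoc, Category.assoc, ← Preadditive.comp_add]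
  exact (congrArg (g ≫ ·) ((((grF A p).map_comp l i).symm ▸ ((grF A p).map_comp r j).symm ▸
    ((grF A p).map_add).symm.trans ((congrArg (grF A p).map h).trans ((grF A p).map_id X))))).trans
      (Category.comp_id g)

section Resolution

variable (K : CochainComplex (FilF A) ℤ)

/-- A stage of the construction. -/
structure St (n : ℤ) where
  /-- The cokernel. -/
  Q : FilF A
  /-- The object of the resolution. -/
  J : FilF A
  /-- The map from the complex. -/
  aQ : K.X n ⟶ Q
  /-- The map to the complex. -/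
  e : Q ⟶ K.X (n + 1)
  /-- The embedding. -/
  v : Q ⟶ J
  hJ : IsFilteredInjective J
  hvm : ∀ p, Mono (ap v p)
  hvl : Lift v
  he : aQ ≫ e = K.d n (n + 1)
  he' : e ≫ K.d (n + 1) (n + 1 + 1) = 0

/-- Compatibility of consecutive stages. -/
structure Next {n : ℤ} (s : St K n) (t : St K (n + 1)) where
  /-- The connecting map. -/
  b : s.J ⟶ t.Q
  be : b ≫ t.e = 0
  vb : s.v ≫ b = s.e ≫ t.aQ
  exact : LvExact (biprod.lift (-s.e) s.v) (biprod.desc t.aQ b)
  epi : ∀ p, Epi (ap (biprod.desc t.aQ b) p)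

variable [EnoughInjectives A]

lemma exists_next {n : ℤ} (s : St K n) : ∃ t : St K (n + 1), Nonempty (Next K s t) := by
  have := s.hvm
  let m : s.Q ⟶ K.X (n + 1) ⊞ s.J := biprod.lift (-s.e) s.v
  have hm : Lift m := lift_of_comp_right biprod.snd (biprod.lift_snd _ _) s.hvl
  obtain ⟨J, v, hJ, hvm, hvl⟩ := exists_hull (coker m hm)
  let e : coker m hm ⟶ K.X (n + 1 + 1) :=
    cokerDesc m hm (biprod.fst ≫ K.d (n + 1) (n + 1 + 1)) (by
      rw [biprod.lift_fst_assoc, Preadditive.neg_comp, s.he', neg_zero])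
  refine ⟨{ Q := coker m hm, J := J, aQ := biprod.inl ≫ cokerπ m hm, e := e, v := v, hJ := hJ,
            hvm := hvm, hvl := hvl, he := ?_, he' := ?_ },
    ⟨{ b := biprod.inr ≫ cokerπ m hm, be := ?_, vb := ?_, exact := ?_, epi := ?_ }⟩⟩
  · simp [e]
  · rw [← cancel_epi (cokerπ m hm)]
    simp [e]
  · simp [e]
  · have h := comp_cokerπ m hm
    rw [← Category.id_comp (cokerπ m hm), ← biprod.total, Preadditive.add_comp, Preadditive.comp_add,
      Category.assoc, Category.assoc, biprod.lift_fst_assoc, biprod.lift_snd_assoc,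
      Preadditive.neg_comp, neg_add_eq_zero] at h
    exact h.symm
  all_goals
    have hπ : biprod.desc (biprod.inl ≫ cokerπ m hm) (biprod.inr ≫ cokerπ m hm) = cokerπ m hm :=
      biprod.hom_ext' _ _ (biprod.inl_desc _ _) (biprod.inr_desc _ _)
  · rw [hπ]
    exact cokerπ_lvExact m hm
  · rw [hπ]
    infer_instance

variable (a : ℤ) [K.IsStrictlyGE a]

lemma exists_stages : ∃ S : ∀ n, St K n,
    (∀ n, Nonempty (Next K (S n) (S (n + 1)))) ∧ ∀ n, n < a → IsZero (S n).J := by
  classical
  have hZ : ∀ n, n < a → IsZero (K.X n) := fun n hn => K.isZero_of_isStrictlyGE a n hn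
  let Z : FilF A := 0
  have hz : IsZero Z := isZero_zero _
  let S' : ∀ n, n < a → St K n := fun n hn =>
    { Q := Z, J := Z, aQ := 0, e := 0, v := 0, hJ := isFilteredInjective_of_isZero hz
      hvm := fun p => ⟨fun g h _ => (isZero_lv hz p).eq_of_tgt _ _⟩
      hvl := lift_zero _ _
      he := (hZ n hn).eq_of_src _ _
      he' := zero_comp }
  obtain ⟨J₀, v₀, hJ₀, hm₀, hl₀⟩ := exists_hull (K.X a)
  let s₀ : St K a :=
    { Q := K.X a, J := J₀, aQ := 𝟙 _, e := K.d a (a + 1), v := v₀, hJ := hJ₀, hvm := hm₀, hvl := hl₀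
      he := Category.id_comp _, he' := K.d_comp_d _ _ _ }
  choose nx hnx using fun (n : ℤ) (s : St K n) => exists_next K s
  let F : ℕ → Σ n, St K n := fun k => Nat.rec ⟨a, s₀⟩ (fun _ p => ⟨p.1 + 1, nx p.1 p.2⟩) k
  have hF : ∀ k : ℕ, (F k).1 = a + k := by
    intro k
    induction k with
    | zero => simp [F]
    | succ k ih =>
      change (F k).1 + 1 = _
      rw [ih]
      omega
  let S : ∀ n, St K n := fun n =>
    if h : n < a then S' n h else ((hF (n - a).toNat).trans (show _ = n by omega)) ▸ (F (n - a).toNat).2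
  have key : ∀ (p q : Σ n, St K n), q = ⟨p.1 + 1, nx p.1 p.2⟩ → ∀ i (hp : p.1 = i) (hq : q.1 = i + 1),
      Nonempty (Next K (hp ▸ p.2) (hq ▸ q.2)) := by
    rintro p q rfl i rfl hq
    exact hnx _ _
  refine ⟨S, fun n => ?_, fun n hn => by simpa [S, hn] using hz⟩
  have hSZ : ∀ m (hm : m < a), S m = S' m hm := fun m hm => dif_pos hm
  have hS₀ : S a = s₀ := by
    have h0 : ∀ (m : ℕ) (hm : m = 0) (h : (F m).1 = a), h ▸ (F m).2 = s₀ := by
      rintro m rfl h
      rfl
    simp only [S]
    rw [dif_neg (lt_irrefl a)]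
    exact h0 _ (by omega) _
  rcases lt_trichotomy (n + 1) a with hn | hn | hn
  · rw [hSZ _ hn, hSZ n (by omega)]
    have h1 : IsZero (K.X (n + 1) ⊞ Z) := (IsZero.iff_id_eq_zero _).mpr
      (biprod.hom_ext _ _ ((hZ _ hn).eq_of_tgt _ _) (hz.eq_of_tgt _ _))
    exact ⟨{ b := 0, be := zero_comp, vb := hz.eq_of_src _ _
             exact := fun p T y _ => ⟨T, 𝟙 T, inferInstance, 0, (isZero_lv h1 p).eq_of_tgt _ _⟩
             epi := fun p => ⟨fun g h _ => (isZero_lv hz p).eq_of_src _ _⟩ }⟩
  · subst hn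
    rw [hSZ n (by omega), hS₀]
    refine ⟨{ b := 0, be := zero_comp, vb := hz.eq_of_src _ _, exact := ?_, epi := ?_ }⟩
    · have hiso : ∀ p, Mono (ap (biprod.desc (𝟙 (K.X (n + 1))) (0 : Z ⟶ K.X (n + 1))) p) := fun p =>
        mono_of_comp_right biprod.inl (v := 𝟙 _) (hv := fun p => by rw [ap_id]; infer_instance)
          (biprod.hom_ext' _ _ (by simp) (hz.eq_of_src _ _)) p
      exact lvExact_of_mono _ _ (hg := hiso)
    · intro p
      have : IsSplitEpi (ap (biprod.desc (𝟙 (K.X (n + 1))) (0 : Z ⟶ K.X (n + 1))) p) :=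
        IsSplitEpi.mk' ⟨ap biprod.inl p, by rw [← ap_comp, biprod.inl_desc, ap_id]⟩
      infer_instance
  · simp only [S]
    rw [dif_neg (by omega), dif_neg (by omega)]
    refine key _ _ ?_ n _ _
    rw [show (n + 1 - a).toNat = (n - a).toNat + 1 by omega]

theorem exists_resolution : ∃ (I : CochainComplex (FilF A) ℤ) (φ : K ⟶ I),
    I.IsStrictlyGE a ∧ (∀ n, IsFilteredInjective (I.X n)) ∧ IsFilteredQuasiIso φ := by
  obtain ⟨S, hS, hz⟩ := exists_stages K a
  let N := fun n => (hS n).some
  let I : CochainComplex (FilF A) ℤ :=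
    CochainComplex.of (fun n => (S n).J) (fun n => (N n).b ≫ (S (n + 1)).v) (fun n => by
      rw [Category.assoc, reassoc_of% (N (n + 1)).vb, reassoc_of% (N n).be, zero_comp])
  let φ : K ⟶ I :=
    { f := fun n => (S n).aQ ≫ (S n).v
      comm' := by
        rintro i j (h : i + 1 = j)
        subst h
        dsimp only [I]
        rw [CochainComplex.of_d, Category.assoc, reassoc_of% (N i).vb, ← reassoc_of% (S i).he] }
  refine ⟨I, φ, (CochainComplex.isStrictlyGE_iff _ _).mpr hz, fun n => (S n).hJ, fun p => ?_⟩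
  have hv : ∀ n, Mono ((grF A p).map (S n).v) := fun n =>
    have := (S n).hvm; mono_gr_map _ (S n).hvl p
  -- the kernel of `K ⊞ I → Q`
  have ker_π : ∀ (n : ℤ) {T : A} (k : T ⟶ (grF A p).obj (K.X (n + 1))) (j : T ⟶ (grF A p).obj (S n).J),
      k ≫ (grF A p).map (S (n + 1)).aQ + j ≫ (grF A p).map (N n).b = 0 →
      ∃ (T' : A) (π : T' ⟶ T) (_ : Epi π) (q : T' ⟶ (grF A p).obj (S n).Q),
        π ≫ k = -(q ≫ (grF A p).map (S n).e) ∧ π ≫ j = q ≫ (grF A p).map (S n).v := by
    intro n T k j h
    have := (N n).epi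
    have w : biprod.lift (-(S n).e) (S n).v ≫ biprod.desc (S (n + 1)).aQ (N n).b = 0 := by
      rw [biprod.lift_desc, Preadditive.neg_comp, (N n).vb, neg_add_cancel]
    obtain ⟨T', π, _, q, hq⟩ := (gr_exact _ _ w (N n).exact (lift_of_epi _) p).exact_up_to_refinements
      (k ≫ (grF A p).map biprod.inl + j ≫ (grF A p).map biprod.inr) (by
        change (k ≫ (grF A p).map biprod.inl + j ≫ (grF A p).map biprod.inr) ≫
          (grF A p).map (biprod.desc (S (n + 1)).aQ (N n).b) = 0
        rw [Preadditive.add_comp, Category.assoc, Category.assoc, ← Functor.map_comp, ← Functor.map_comp,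
          biprod.inl_desc, biprod.inr_desc, h])
    change T' ⟶ (grF A p).obj (S n).Q at q
    have hq' : π ≫ (k ≫ (grF A p).map biprod.inl + j ≫ (grF A p).map biprod.inr) =
        q ≫ (grF A p).map (biprod.lift (-(S n).e) (S n).v) := hq
    refine ⟨T', π, inferInstance, q, ?_, ?_⟩
    · have := congrArg (· ≫ (grF A p).map (biprod.fst : K.X (n + 1) ⊞ (S n).J ⟶ _)) hq'
      simp only [Preadditive.add_comp, Category.assoc, Preadditive.comp_add, ← Functor.map_comp,
        biprod.inl_fst, biprod.inr_fst, Functor.map_zero, comp_zero, add_zero, biprod.lift_fst,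
        Functor.map_neg, Preadditive.comp_neg] at this
      exact ((congrArg (π ≫ ·) ((congrArg (k ≫ ·) ((grF A p).map_id _)).trans (Category.comp_id k))).symm.trans this)
    · have := congrArg (· ≫ (grF A p).map (biprod.snd : K.X (n + 1) ⊞ (S n).J ⟶ _)) hq'
      simp only [Preadditive.add_comp, Category.assoc, Preadditive.comp_add, ← Functor.map_comp,
        biprod.inl_snd, biprod.inr_snd, Functor.map_zero, comp_zero, zero_add, biprod.lift_snd] at this
      exact ((congrArg (π ≫ ·) ((congrArg (j ≫ ·) ((grF A p).map_id _)).trans (Category.comp_id j))).symm.trans this)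
  -- surjectivity of `K ⊞ I → Q`
  have epi_π : ∀ (n : ℤ) {T : A} (q : T ⟶ (grF A p).obj (S (n + 1)).Q),
      ∃ (T' : A) (π : T' ⟶ T) (_ : Epi π) (k : T' ⟶ (grF A p).obj (K.X (n + 1)))
        (j : T' ⟶ (grF A p).obj (S n).J),
        π ≫ q = k ≫ (grF A p).map (S (n + 1)).aQ + j ≫ (grF A p).map (N n).b := by
    intro n T q
    have := (N n).epi
    have := epi_gr_map (biprod.desc (S (n + 1)).aQ (N n).b) p
    obtain ⟨T', π, _, w, hw⟩ :=
      surjective_up_to_refinements_of_epi ((grF A p).map (biprod.desc (S (n + 1)).aQ (N n).b)) q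
    refine ⟨T', π, inferInstance, w ≫ (grF A p).map biprod.fst, w ≫ (grF A p).map biprod.snd, ?_⟩
    rw [hw, Category.assoc, Category.assoc, ← Preadditive.comp_add, ← Functor.map_comp, ← Functor.map_comp,
      ← Functor.map_add, ← biprod.desc_eq]
  have key : ∀ i : ℤ, QuasiIsoAt ((grCx p).map φ) (i + 1 + 1) := by
    intro i
    rw [quasiIsoAt_iff_isIso_homologyMap]
    have : Mono (HomologicalComplex.homologyMap ((grCx p).map φ) (i + 1 + 1)) := by
      rw [HomologicalComplex.mono_homologyMap_iff_up_to_refinements _ (i + 1) (i + 1 + 1) (i + 1 + 1 + 1)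
        (by simp) (by simp)]
      intro T k hk j hj
      change T ⟶ (grF A p).obj (K.X (i + 1 + 1)) at k
      change T ⟶ (grF A p).obj (S (i + 1)).J at j
      have hj' : k ≫ (grF A p).map ((S (i + 1 + 1)).aQ ≫ (S (i + 1 + 1)).v) =
          j ≫ (grF A p).map (I.d (i + 1) (i + 1 + 1)) := hj
      simp only [I, CochainComplex.of_d, Functor.map_comp, ← Category.assoc, cancel_mono] at hj'
      obtain ⟨T₁, π₁, _, q, hq₁, hq₂⟩ := ker_π (i + 1) k (-j) (by rw [Preadditive.neg_comp, hj', add_neg_cancel])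
      obtain ⟨T₂, π₂, _, k', j', hk'⟩ := epi_π i q
      refine ⟨T₂, π₂ ≫ π₁, inferInstance, -k', ?_⟩
      change (π₂ ≫ π₁) ≫ k = (-k') ≫ (grF A p).map (K.d (i + 1) (i + 1 + 1))
      rw [Category.assoc, hq₁, Preadditive.comp_neg, ← Category.assoc, hk', Preadditive.add_comp,
        Category.assoc, Category.assoc, ← Functor.map_comp, ← Functor.map_comp, (S (i + 1)).he, (N i).be,
        Functor.map_zero, comp_zero, add_zero, Preadditive.neg_comp]
    have : Epi (HomologicalComplex.homologyMap ((grCx p).map φ) (i + 1 + 1)) := by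
      rw [HomologicalComplex.epi_homologyMap_iff_up_to_refinements _ (i + 1) (i + 1 + 1) (i + 1 + 1 + 1)
        (by simp) (by simp)]
      intro T j hj
      change T ⟶ (grF A p).obj (S (i + 1 + 1)).J at j
      have hj' : j ≫ (grF A p).map (I.d (i + 1 + 1) (i + 1 + 1 + 1)) = 0 := hj
      simp only [I, CochainComplex.of_d, Functor.map_comp, ← Category.assoc] at hj'
      have hj'' := (cancel_mono ((grF A p).map (S (i + 1 + 1 + 1)).v)).mp (hj'.trans zero_comp.symm)
      obtain ⟨T₁, π₁, _, q, hq₁, hq₂⟩ := ker_π (i + 1 + 1) (0 : T ⟶ _) j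
        (by rw [zero_comp, zero_add]; exact hj'')
      obtain ⟨T₂, π₂, _, k, j', hk⟩ := epi_π (i + 1) q
      rw [comp_zero, eq_comm, neg_eq_zero] at hq₁
      refine ⟨T₂, π₂ ≫ π₁, inferInstance, k, ?_, j', ?_⟩
      · change k ≫ (grF A p).map (K.d (i + 1 + 1) (i + 1 + 1 + 1)) = 0
        have h := congrArg (· ≫ (grF A p).map (S (i + 1 + 1)).e) hk
        simp only [Category.assoc, hq₁, comp_zero, Preadditive.add_comp, ← Functor.map_comp, (S (i + 1 + 1)).he,
          (N (i + 1)).be, Functor.map_zero, add_zero] at h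
        exact h.symm
      · change (π₂ ≫ π₁) ≫ j = k ≫ (grF A p).map ((S (i + 1 + 1)).aQ ≫ (S (i + 1 + 1)).v) +
          j' ≫ (grF A p).map (I.d (i + 1) (i + 1 + 1))
        simp only [I, CochainComplex.of_d, Functor.map_comp]
        rw [Category.assoc, hq₂, ← Category.assoc, hk, Preadditive.add_comp, Category.assoc, Category.assoc]
    exact isIso_of_mono_of_epi _
  refine ⟨fun n => ?_⟩
  have h := key (n - 1 - 1)
  rwa [show n - 1 - 1 + 1 + 1 = n by omega] at h

include a in
/-- A resolution with componentwise strict monomorphisms. -/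
theorem exists_strict_resolution : ∃ (I : CochainComplex (FilF A) ℤ) (a' : ℤ) (φ : K ⟶ I),
    I.IsStrictlyGE a' ∧ (∀ n, IsFilteredInjective (I.X n)) ∧ IsFilteredQuasiIso φ ∧
      ∀ n, Mono (φ.f n) ∧ IsStrict (φ.f n) := by
  obtain ⟨I, φ, hI₁, hI₂, hφ⟩ := exists_resolution K a
  choose F f hF hfm hfl hF0 using fun n => exists_hull' (K.X n)
  let T : CochainComplex (FilF A) ℤ :=
    CochainComplex.of (fun n => F n ⊞ F (n + 1)) (fun n => biprod.snd ≫ biprod.inl) (fun n => by simp)
  let ψ : K ⟶ T :=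
    { f := fun n => biprod.lift (f n) (K.d n (n + 1) ≫ f (n + 1))
      comm' := by
        rintro i j (h : i + 1 = j)
        subst h
        dsimp only [T]
        rw [CochainComplex.of_d]
        refine biprod.hom_ext _ _ ?_ ?_ <;> simp }
  let M := I ⊞ T
  let χ : K ⟶ M := biprod.lift φ ψ
  have hχ : ∀ n, χ.f n ≫ (biprod.snd : M ⟶ T).f n ≫ (biprod.fst : F n ⊞ F (n + 1) ⟶ F n) = f n := fun n => by
    have e : χ.f n ≫ (biprod.snd : M ⟶ T).f n = ψ.f n := by
      rw [← HomologicalComplex.comp_f, biprod.lift_snd]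
    rw [reassoc_of% e]
    exact biprod.lift_fst _ _
  have ext : ∀ n {X : FilF A} (g : X ⟶ M.X n), g ≫ (biprod.fst : M ⟶ I).f n = 0 →
      g ≫ (biprod.snd : M ⟶ T).f n = 0 → g = 0 := by
    intro n X g h₁ h₂
    have e := HomologicalComplex.congr_hom (biprod.total (X := I) (Y := T)) n
    rw [← Category.comp_id g]
    refine (congrArg (g ≫ ·) e.symm).trans ?_
    rw [HomologicalComplex.add_f_apply, HomologicalComplex.comp_f, HomologicalComplex.comp_f,
      Preadditive.comp_add, ← Category.assoc, ← Category.assoc, h₁, h₂, zero_comp, zero_comp, add_zero]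
  refine ⟨M, a - 1, χ, ?_, fun n q => ?_, ?_, fun n => ?_⟩
  · rw [CochainComplex.isStrictlyGE_iff]
    intro n hn
    refine (IsZero.iff_id_eq_zero _).mpr (ext n _ ?_ ?_)
    · exact (I.isZero_of_isStrictlyGE a n (by omega)).eq_of_tgt _ _
    · have h1 := hF0 n (K.isZero_of_isStrictlyGE a n (by omega))
      have h2 := hF0 (n + 1) (K.isZero_of_isStrictlyGE a (n + 1) (by omega))
      exact biprod.hom_ext _ _ (h1.eq_of_tgt _ _) (h2.eq_of_tgt _ _)
  · have := hI₂ n q
    have := hF n q
    have := hF (n + 1) q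
    have hT : Injective ((grF A q).obj (T.X n)) :=
      injective_gr_of_split q biprod.fst biprod.snd biprod.inl biprod.inr (biprod.total (X := F n) (Y := F (n + 1)))
    exact injective_gr_of_split q ((biprod.fst : M ⟶ I).f n) ((biprod.snd : M ⟶ T).f n)
      ((biprod.inl : I ⟶ M).f n) ((biprod.inr : T ⟶ M).f n)
      (HomologicalComplex.congr_hom (biprod.total (X := I) (Y := T)) n)
  · intro q
    have hT : Homotopy (𝟙 T) 0 :=
      { hom := fun i j => if h : j + 1 = i then
          eqToHom (congrArg (fun k => F k ⊞ F (k + 1)) h.symm) ≫ biprod.fst ≫ biprod.inr else 0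
        zero := fun i j h => dif_neg h
        comm := fun n => by
          rw [dNext_eq _ (show (ComplexShape.up ℤ).Rel n (n + 1) from rfl),
            prevD_eq _ (show (ComplexShape.up ℤ).Rel (n - 1) n from sub_add_cancel n 1),
            dif_pos rfl, dif_pos (sub_add_cancel n 1), HomologicalComplex.zero_f, add_zero,
            eqToHom_refl, Category.id_comp]
          dsimp only [T]
          rw [CochainComplex.of_d]
          have key : ∀ (m : ℤ) (h : m + 1 = n),
              (eqToHom (congrArg (fun k => F k ⊞ F (k + 1)) h.symm) ≫ biprod.fst ≫ biprod.inr) ≫ T.d m n =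
                biprod.fst ≫ biprod.inl := by
            rintro m rfl
            dsimp only [T]
            rw [CochainComplex.of_d]
            simp
          rw [key (n - 1) (sub_add_cancel n 1), Category.assoc, biprod.inl_fst_assoc]
          exact biprod.total.symm.trans (add_comm _ _) }
    let he : HomotopyEquiv M I :=
      { hom := biprod.fst
        inv := biprod.inl
        homotopyHomInvId := (Homotopy.ofEq (by simp)).trans
          ((((hT.compLeft (biprod.snd : M ⟶ T)).compRight biprod.inr).symm.add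
            (Homotopy.refl ((biprod.fst : M ⟶ I) ≫ biprod.inl))).trans (Homotopy.ofEq (by rw [Category.comp_id, add_comm]; exact biprod.total)))
        homotopyInvHomId := Homotopy.ofEq biprod.inl_fst }
    have h2 : QuasiIso ((grCx q).map χ ≫ ((grF A q).mapHomotopyEquiv he).hom) := by
      have e : (grCx q).map χ ≫ ((grF A q).mapHomotopyEquiv he).hom = (grCx q).map φ := by
        change (grCx q).map χ ≫ (grCx q).map biprod.fst = _
        rw [← Functor.map_comp, biprod.lift_fst]
      rw [e]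
      exact hφ q
    exact quasiIso_of_comp_right _ ((grF A q).mapHomotopyEquiv he).hom
  · have := hfm n
    have hm := fun p => mono_of_comp_right (m := χ.f n) _ (hχ n) p
    exact ⟨⟨fun g h e => hom_ext fun p =>
      have := hm p; (cancel_mono (ap (χ.f n) p)).mp (congrArg (fun k => ap k p) e)⟩,
      isStrict_of_lift (lift_of_comp_right _ (hχ n) (hfl n))⟩

end Resolution

end FilDLib
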